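import Groth.Agent.KFlatLib.Scheme.RpushBound
import Groth.Agent.PnCoh.Sections
import Groth.Prelude

/-!
# The cohomological dimension of a projective space over an affine base
-/

universe u

set_option backward.isDefEq.respectTransparency false
set_option backward.isDefEq.respectTransparency.types false
set_option linter.style.haveILetI false

open CategoryTheory CategoryTheory.Limits AlgebraicGeometry TopologicalSpace Opposite

namespace Groth.Agent.ProjPush

open QCoh KFlatLib

variable {X Y : Scheme.{u}}

/-- A separated scheme covered by `t` affines over an affine base has no higher direct images from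
degree `t` on. -/
theorem isZero_Rpush_of_cover [IsAffine Y] (f : X ⟶ Y) [X.IsSeparated] [QuasiCompact f]
    [QuasiSeparated f] [HasInjectiveResolutions X.Modules] (t : ℕ) (U : Fin t → X.Opens)
    (hU : ∀ i, IsAffineOpen (U i)) (hcov : ⨆ i, U i = ⊤) (M : X.Modules) (hM : Coh.IsQCoh M)
    (p : ℕ) (hp : t ≤ p) (hp' : 0 < p) : IsZero ((Coh.Rpush f p).obj M) := by
  obtain ⟨q, rfl⟩ := Nat.exists_eq_add_of_le (show 1 ≤ p by omega)
  rw [Nat.add_comm]
  obtain ⟨e⟩ := nonempty_Rpush_iso f M q
  let g := (Scheme.Modules.pushforward f).map (godπ M q)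
  haveI : Epi g := by
    haveI : (toAbFunctor Y).Faithful :=
      inferInstanceAs (SheafOfModules.toSheaf _).Faithful
    haveI : Epi ((toAbFunctor Y).map g) := by
      refine (TopCat.Sheaf.isLocallySurjective_iff_epi _).1
        ((TopCat.Presheaf.isLocallySurjective_iff _).2 fun W s y hy => ?_)
      obtain ⟨b, hb, hyb⟩ := (isAffineOpen_top Y).exists_basicOpen_le (V := W) ⟨y, hy⟩ trivial
      refine ⟨Y.basicOpen b, hb, ?_, hyb⟩
      have hsub : Subsingleton (CohTop.HU (X := X.toPresheafedSpace.carrier) (abSheaf M) (q + 1)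
          (f ⁻¹ᵁ Y.basicOpen b)) := by
        rw [Scheme.preimage_basicOpen]
        let V : Fin t → X.Opens := fun i => U i ⊓ X.basicOpen (f.appTop b)
        have hV : X.basicOpen (f.appTop b) = ⨆ i, V i := by
          rw [show (⨆ i, V i) = (⨆ i, U i) ⊓ X.basicOpen (f.appTop b) from (iSup_inf_eq _ _).symm,
            hcov, top_inf_eq]
        erw [hV]
        refine subsingleton_HU_iSup hM (fun W => IsAffineOpen W) (fun _ h => h)
          (fun V W hV hW => hV.inf hW) t V (fun i => ?_) (q + 1) (by omega)
        rw [show V i = X.basicOpen ((X.presheaf.map (homOfLE le_top).op) (f.appTop b) : Γ(X, U i))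
          from (Scheme.basicOpen_res _ _ _).symm]
        exact (hU i).basicOpen _
      exact godπ_app_surjective hsub _
    exact (toAbFunctor Y).epi_of_epi_map inferInstance
  exact (isZero_cokernel_of_epi g).of_iso e

/-- The projection of a projective space is affine over each standard open. -/
theorem exists_affine_cover_projSpaceOver (r : ℕ) (Y : Scheme.{u}) [IsAffine Y] :
    ∃ U : Fin (r + 1) → (CohB1.ProjSpaceOver r Y).Opens,
      (∀ i, IsAffineOpen (U i)) ∧ ⨆ i, U i = ⊤ := by
  let p : CohB1.ProjSpaceOver r Y ⟶ CohB1.ProjSpace r (ULift.{u} ℤ) := pullback.fst _ _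
  haveI : IsAffineHom (specULiftZIsTerminal.from Y) := isAffineHom_of_isAffine _
  haveI : IsAffineHom p := MorphismProperty.pullback_fst _ _ ‹_›
  let W : Fin (r + 1) → (CohB1.ProjSpace r (ULift.{u} ℤ)).Opens := fun i =>
    PnCoh.mOpen (ULift.{u} ℤ) (Finsupp.single i 1)
  have hW : ⨆ i, W i = ⊤ := PnCoh.iSup_mOpen_single
  refine ⟨fun i => p ⁻¹ᵁ W i, fun i => (PnCoh.isAffineOpen_mOpen (by simp)).preimage p, ?_⟩
  rw [← Scheme.Hom.preimage_iSup, hW]
  rfl

end Groth.Agent.ProjPush
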