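import Groth.Agent.ProjPush.PushPerfect
import Groth.Agent.ProjPush.Bound
import Groth.Agent.KFlatLib.Scheme.RpushUnbounded
import Groth.Agent.KFlatLib.Scheme.PCQCoh
import Groth.Agent.DQGen.Approx
import Groth.Agent.PnCoh.Chow.Proper

/-!
# The derived direct image along a projective space preserves pseudo-coherence
-/

set_option linter.style.haveILetI false
set_option backward.isDefEq.respectTransparency false
set_option backward.isDefEq.respectTransparency.types false
set_option synthInstance.maxHeartbeats 200000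

universe u

open CategoryTheory CategoryTheory.Limits AlgebraicGeometry TopologicalSpace Opposite Pretriangulated

attribute [local instance] HasDerivedCategory.standard

noncomputable section

namespace Groth.Agent.ProjPush

open Groth.Agent.KFlatLib Groth.Agent.DQGen

lemma locPC_of_isPcMap {X : Scheme.{u}} {m : ℤ} {R K : DCoh.D X} (φ : R ⟶ K)
    (hR : DCoh.IsPerfect R) (hφ : IsPcMap m φ) : LocPC m K := fun x => by
  obtain ⟨U, j, _, hx, P, hP, ⟨e⟩⟩ := (isPerfect_iff R).1 hR x
  exact ⟨U, j, _, hx, P, e.hom ≫ (rho j).map φ, hP, (isPcMap_of_isIso m e.hom).comp (hφ.map_exact _)⟩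

lemma isQCohD_of_locPC {X : Scheme.{u}} {E : DCoh.D X} (h : ∀ m, LocPC m E) : DCoh.IsQCohD E := fun i =>
  isQCoh_HD_of_pseudoCoherent ((isPseudoCoherentD_iff (i - 1) E).2 (h (i - 1))) i (by omega)

variable (r : ℕ) (Y : Scheme.{u}) [IsAffine Y] [DCoh.HasRpush (CohB1.ProjSpaceOver.toBase r Y)]

local notation "π" => CohB1.ProjSpaceOver.toBase r Y

/-- The derived direct image along `P^r_Y ⟶ Y` has cohomological amplitude at most `r`. -/
theorem isZero_hd_rpush_projSpaceOver {K : DCoh.D (CohB1.ProjSpaceOver r Y)} (hK : DCoh.IsQCohD K)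
    (b : ℤ) [K.IsLE b] (i : ℤ) (hi : b + r + 1 ≤ i) : IsZero (DCoh.HD ((DCoh.Rpush π).obj K) i) := by
  haveI := hasInjectiveResolutions_modules (X := CohB1.ProjSpaceOver r Y)
  haveI := isSeparated_toBase r Y
  haveI := quasiCompact_toBase r Y
  haveI : (CohB1.ProjSpaceOver r Y).IsSeparated := ⟨by
    rw [← terminal.comp_from π]; infer_instance⟩
  obtain ⟨U, hU, hcov⟩ := exists_affine_cover_projSpaceOver r Y
  refine isZero_of_isZero_restrict _ fun y => ⟨⊤, trivial, ?_⟩
  refine isZero_restrict_hd_rpush π hK b ⊤ (r + 1) ?_ i (by omega)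
  intro M hM p hp
  exact (Scheme.Modules.restrictFunctor (⊤ : Y.Opens).ι).map_isZero
    (isZero_Rpush_of_cover π (r + 1) U hU hcov M hM p hp (by omega))

/-- The derived direct image along `P^r_Y ⟶ Y` preserves pseudo-coherence. -/
theorem locPC_rpush_projSpaceOver (E : DCoh.D (CohB1.ProjSpaceOver r Y)) (hE : ∀ m, LocPC m E) (m : ℤ) :
    LocPC m ((DCoh.Rpush π).obj E) := by
  haveI := compactSpace_projSpaceOver r Y
  haveI := quasiSeparatedSpace_projSpaceOver r Y
  have hq := isQCohD_of_locPC hE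
  obtain ⟨ρ, hρ⟩ := hasApprox (CohB1.ProjSpaceOver r Y) ⊥ (fun Q _ _ => by simp)
  have hk : Killed (⊥ : (CohB1.ProjSpaceOver r Y).Opens) (m - r) E :=
    hρ (m - r) E hq (hE _) fun i _ x _ h => h
  obtain ⟨P, α, ⟨hP, -⟩, hα⟩ := hk.exists_pcMap
  obtain ⟨C, b, c, hT⟩ := distinguished_cocone_triangle α
  have hz : ∀ i, m - r ≤ i → IsZero (DCoh.HD C i) := isZero_obj₃_of_isPcMap hT hα
  haveI : C.IsLE (m - r - 1) := (DerivedCategory.isLE_iff C _).2 fun i hi => hz i (by omega)
  obtain ⟨c', hc'⟩ := exists_rpush_triangle π _ hT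
  refine locPC_of_isPcMap ((DCoh.Rpush π).map α) (isPerfect_rpush_projSpaceOver r Y P hP)
    (isPcMap_of_isZero_obj₃ hc' m fun i hi => ?_)
  exact isZero_hd_rpush_projSpaceOver r Y (K := C)
    (isQCohD_obj₂ (rot_of_distTriang _ hT) hq (isQCohD_shift (isQCohD_of_isPerfect hP) 1)) (m - r - 1) i
    (by omega)

end Groth.Agent.ProjPush
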