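import Groth.Agent.ProjPush.PnTwVan
import Groth.Agent.KFlatLib.Scheme.ProjClosed
import Groth.Agent.KFlatLib.Scheme.ProjFormula

/-!
# The projection formula for a module along a closed immersion
-/

set_option linter.style.haveILetI false
set_option backward.isDefEq.respectTransparency false
set_option backward.isDefEq.respectTransparency.types false
set_option synthInstance.maxHeartbeats 200000

universe u

open CategoryTheory CategoryTheory.Limits AlgebraicGeometry

attribute [local instance] HasDerivedCategory.standard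

noncomputable section

namespace Groth.Agent.ProjPush

open Groth.Agent.KFlatLib

/-- The derived tensor product with a module is the one with the module as a complex. -/
theorem nonempty_ltensorMod_cx {X : Scheme.{u}} (M : X.Modules) [DCoh.HasLTensorMod M]
    [DCoh.HasLTensorCx ((HomologicalComplex.single X.Modules (ComplexShape.up ℤ) 0).obj M)] (K : DCoh.D X) :
    Nonempty ((DCoh.LTensorMod M).obj K ≅
      (DCoh.LTensorCx ((HomologicalComplex.single X.Modules (ComplexShape.up ℤ) 0).obj M)).obj K) := by
  let R := repK K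
  have hR : DCoh.IsKFlat R := isKFlat_repK K
  let S := (HomologicalComplex.single X.Modules (ComplexShape.up ℤ) 0).obj M
  haveI := isIso_ltensorModComparison M hR
  exact ⟨(DCoh.LTensorMod M).mapIso (repKIso K).symm ≪≫ asIso ((ltensorModComparison M).app R) ≪≫
    DerivedCategory.Q.mapIso ((singleIso DCoh.tensorBi M).app R).symm ≪≫ (ltensorCxIso S hR).symm ≪≫
    (DCoh.LTensorCx S).mapIso (repKIso K)⟩

/-- The projection formula along a closed immersion, for a finite locally free module. -/
theorem nonempty_rpush_ltensorMod_closed {X Y : Scheme.{u}} (i : X ⟶ Y) [IsClosedImmersion i] [DCoh.HasRpush i]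
    (T : Y.Modules) (hT : FlatMod.IsFinLocFree T) [DCoh.HasLTensorMod T]
    [DCoh.HasLTensorMod ((Scheme.Modules.pullback i).obj T)] (E : DCoh.D X) :
    Nonempty ((DCoh.LTensorMod T).obj ((DCoh.Rpush i).obj E) ≅
      (DCoh.Rpush i).obj ((DCoh.LTensorMod ((Scheme.Modules.pullback i).obj T)).obj E)) := by
  let P := (HomologicalComplex.single Y.Modules (ComplexShape.up ℤ) 0).obj T
  let P' := (HomologicalComplex.single X.Modules (ComplexShape.up ℤ) 0).obj ((Scheme.Modules.pullback i).obj T)
  have hP : DCoh.IsKFlat P := by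
    refine isKFlat_of_vanishesOutside (a := 0) (b := 0)
      (fun j hj => HomologicalComplex.isZero_single_obj_X (ComplexShape.up ℤ) 0 _ j (by omega)) fun j => ?_
    refine isFlat_of_isFinLocFree ?_
    rcases eq_or_ne j 0 with h | h
    · subst h
      exact H23.PullPush.isFinLocFree_of_iso (HomologicalComplex.singleObjXSelf (ComplexShape.up ℤ) 0 _).symm hT
    · exact isFinLocFree_of_isZero (HomologicalComplex.isZero_single_obj_X (ComplexShape.up ℤ) 0 _ j h)
  haveI := hasLTensorCx P
  haveI := hasLTensorCx P'
  haveI := hasLTensorCx ((pullCx i).obj P)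
  obtain ⟨a⟩ := nonempty_ltensorMod_cx T ((DCoh.Rpush i).obj E)
  obtain ⟨p⟩ := nonempty_projection_closed i P hP E
  obtain ⟨c⟩ := nonempty_LTensorCx_congr_D (P := (pullCx i).obj P) (E := P')
    (DerivedCategory.Q.mapIso ((HomologicalComplex.singleMapHomologicalComplex (Scheme.Modules.pullback i)
      (ComplexShape.up ℤ) 0).app T))
  obtain ⟨b⟩ := nonempty_ltensorMod_cx ((Scheme.Modules.pullback i).obj T) E
  exact ⟨a ≪≫ p ≪≫ (DCoh.Rpush i).mapIso (c.app E ≪≫ b.symm)⟩

/-- The direct image along a closed immersion is exact on the cohomology. -/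
theorem isLE_rpush_closed {X Y : Scheme.{u}} (i : X ⟶ Y) [IsClosedImmersion i] [DCoh.HasRpush i]
    (E : DCoh.D X) (a : ℤ) [E.IsLE a] : ((DCoh.Rpush i).obj E).IsLE a := by
  let C := DerivedCategory.Q.objPreimage E
  obtain ⟨e'⟩ := nonempty_rpush_iso_closed i C
  refine (DerivedCategory.isLE_iff _ a).2 fun q hq => ?_
  obtain ⟨h⟩ := PushAmp.nonempty_hd_pushD i E q
  refine ((Scheme.Modules.pushforward i).map_isZero (DerivedCategory.isZero_of_isLE E a q hq)).of_iso ?_
  exact (DerivedCategory.homologyFunctor Y.Modules q).mapIso ((DCoh.Rpush i).mapIso (repIso E).symm ≪≫ e' ≪≫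
    ((PushAmp.pushDQ i).app C).symm ≪≫ (PushAmp.pushD i).mapIso (repIso E)) ≪≫ h

end Groth.Agent.ProjPush
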