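import Groth.Agent.PushAmp.Basic
import Groth.Agent.PushAmp.SmoothDrop
import Groth.Agent.ProjPush.PushPC
import Groth.Agent.KRRReg.LocFree
import Groth.Agent.KFlatLib.Perfect.Amplitude

/-!
# Amplitude of direct images along a projective space
-/

set_option linter.style.haveILetI false
set_option backward.isDefEq.respectTransparency false
set_option backward.isDefEq.respectTransparency.types false
set_option synthInstance.maxHeartbeats 200000

universe u

open CategoryTheory CategoryTheory.Limits AlgebraicGeometry Pretriangulated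

attribute [local instance] HasDerivedCategory.standard

noncomputable section

namespace Groth.Agent.ProjPush

open Groth.Agent.KFlatLib Groth.Agent.DQGen

variable {X Y : Scheme.{u}} (f : X ⟶ Y) [QuasiCompact f] [QuasiSeparated f] [DCoh.HasRpush f]

/-- Tor amplitude relative to `f` gives tor amplitude of the derived direct image, shifted by the
cohomological dimension of `f`. -/
theorem torAmplitude_rpush_of_bound [CompactSpace Y] [QuasiSeparatedSpace Y] (N : ℕ)
    (hN : ∀ (K : DCoh.D X), DCoh.IsQCohD K → ∀ b : ℤ, K.IsLE b → ∀ i : ℤ, b + N ≤ i →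
      IsZero (DCoh.HD ((DCoh.Rpush f).obj K) i))
    (E : CochainComplex X.Modules ℤ) (hq : DCoh.IsQCohD (DCoh.toD X E)) (a b b' : ℤ)
    (hb : b + N ≤ b' + 1) (hE : DerSch.HasTorAmplitude f a b E) :
    DCoh.HasTorAmplitudeIn a b' ((DCoh.Rpush f).obj (DCoh.toD X E)) := by
  haveI : DCoh.HasLpull f := hasLpull f
  refine torAmplitude_of_qcoh _ _ _ fun G hG _ i hi => ?_
  let K₀ := (HomologicalComplex.single Y.Modules (ComplexShape.up ℤ) 0).obj G
  haveI : CochainComplex.IsLE K₀ 0 := inferInstance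
  obtain ⟨P, ψ, hψ, hPle, hP⟩ := exists_flat_rep K₀ 0
  haveI := hψ
  haveI := hasLTensorCx K₀
  let M := (pullCx f).obj P
  have hMK : DCoh.IsKFlat M := isKFlat_pullback f hP
  haveI := hasLTensorCx M
  haveI := isIso_Q_map ψ hψ
  let eψ : DCoh.toD Y P ≅ DCoh.toD Y K₀ := asIso (DerivedCategory.Q.map ψ)
  have hK₀ : DCoh.IsQCohD (DCoh.toD Y K₀) := (isQCohD_Q_iff K₀).2 fun j => by
    refine isQCoh_homology_of_terms K₀ (fun p => ?_) j
    rcases eq_or_ne p 0 with rfl | hp
    · exact isQCoh_of_iso (HomologicalComplex.singleObjXSelf (ComplexShape.up ℤ) 0 G).symm hG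
    · exact isQCoh_of_isZero (HomologicalComplex.isZero_single_obj_X _ _ _ _ hp)
  obtain ⟨e⟩ := nonempty_projection_DQCoh f (DCoh.toD X E) hq K₀ hK₀ M
    ⟨(lpullIso f hP).symm ≪≫ (DCoh.Lpull f).mapIso eψ⟩
  obtain ⟨e'⟩ := PushAmp.nonempty_hd_ltensorMod_cx G ((DCoh.Rpush f).obj (DCoh.toD X E)) i
  refine IsZero.of_iso ?_ (e' ≪≫ (DerivedCategory.homologyFunctor Y.Modules i).mapIso e)
  haveI := isIso_LTensorCx_counit_of_isKFlat_right M hMK E
  let L := (DCoh.LTensorCx M).obj (DCoh.toD X E)
  let eL : L ≅ DerivedCategory.Q.obj ((DCoh.tensorCx.obj E).obj M) :=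
    asIso (((DCoh.tensorCxQ M).totalLeftDerivedCounit DerivedCategory.Q (qisX X)).app E)
  have hz : ∀ j, (j < a ∨ b < j) → IsZero (DCoh.HD L j) := fun j hj =>
    (PushAmp.isZero_homology_tensor_pull f hE hP G ψ j hj).of_iso
      ((DerivedCategory.homologyFunctor X.Modules j).mapIso eL ≪≫
        (DerivedCategory.homologyFunctorFactors X.Modules j).app _)
  haveI hge : L.IsGE a := (DerivedCategory.isGE_iff L a).2 fun j hj => hz j (Or.inl hj)
  have hle : L.IsLE b := (DerivedCategory.isLE_iff L b).2 fun j hj => hz j (Or.inr hj)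
  have hLq : DCoh.IsQCohD L :=
    isQCohD_ltensor M (isQCohD_of_iso (lpullIso f hP)
      (isQCohD_lpull f (isQCohD_of_iso eψ.symm hK₀))) hq
  rcases hi with hi | hi
  · exact isZero_hd_rpush_of_lt f L a i hi
  · exact hN L hLq b hle i (by omega)

lemma flat_toBase (r : ℕ) (Y : Scheme.{u}) : Flat (CohB1.ProjSpaceOver.toBase r Y) :=
  MorphismProperty.pullback_snd (P := @Flat) _ _ (KRRReg.flat_toSpec r)

end Groth.Agent.ProjPush
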