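import Groth.Agent.ProjPush.Closed
import Groth.Agent.PushAmp.PerfMor
import Groth.Agent.PushAmp.ChartFlat
import Groth.Agent.H9Misc.DRingPC
import Groth.Agent.S6217

/-!
# Perfect morphisms and perfect objects relative to them
-/

set_option linter.style.haveILetI false
set_option backward.isDefEq.respectTransparency false
set_option backward.isDefEq.respectTransparency.types false
set_option synthInstance.maxHeartbeats 200000

universe u

open CategoryTheory CategoryTheory.Limits AlgebraicGeometry TopologicalSpace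

attribute [local instance] HasDerivedCategory.standard

noncomputable section

namespace Groth.Agent.ProjPush

open Groth.Agent.KFlatLib Groth.Agent.PushAmp

variable {X Y : Scheme.{u}} (f : X ⟶ Y)

/-- A perfect morphism is locally of finite type. -/
theorem locallyOfFiniteType_of_perfMor (hf : MoreMor.IsPerfectMor f) : LocallyOfFiniteType f := by
  refine (HasRingHomProperty.iff_exists_appLE (P := @LocallyOfFiniteType)
    (RingHom.finiteType_stableUnderComposition.stableUnderCompositionWithLocalizationAway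
      RingHom.finiteType_holdsForLocalizationAway).left).2 fun x => ?_
  obtain ⟨V, hV, hxV, -⟩ := exists_isAffineOpen_mem_and_subset (U := (⊤ : Y.Opens)) (x := f x) trivial
  obtain ⟨U, hU, hxU, hUV⟩ := exists_isAffineOpen_mem_and_subset (U := f ⁻¹ᵁ V) (x := x) hxV
  letI := (f.appLE V U hUV).hom.toAlgebra
  obtain ⟨⟨n, φ, hs, -⟩, -⟩ := hf U V hU hV hUV
  exact ⟨⟨V, hV⟩, ⟨U, hU⟩, hxU, hUV, Algebra.FiniteType.of_surjective φ hs⟩

/-- A perfect morphism is pseudo-coherent. -/
theorem nPC_of_perfMor (hf : MoreMor.IsPerfectMor f) (m : ℤ) : DerSch.IsNPseudoCoherent f m := by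
  haveI := locallyOfFiniteType_of_perfMor f hf
  refine relPC_unit_of_charts f m fun V U e => ?_
  letI := (f.appLE V.1 U.1 e).hom.toAlgebra
  obtain ⟨⟨n, φ, hs, hpc⟩, -⟩ := hf U.1 V.1 U.2 V.2 e
  exact ⟨n, φ.toRingHom, ⟨hs, φ.comp_algebraMap⟩, (H9Misc.DRingPC.pc'_iff _).1 hpc m⟩

/-- A perfect complex is perfect relative to a perfect morphism. -/
theorem isPerfectRel_of_isPerfect (hf : MoreMor.IsPerfectMor f) {E : DCoh.D X} (hE : DCoh.IsPerfect E)
    (R : CochainComplex X.Modules ℤ) (e : DCoh.toD X R ≅ E) : DerSch.IsPerfectRel f R := by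
  haveI := locallyOfFiniteType_of_perfMor f hf
  refine ⟨fun m => (locPC_iff_relPC f (nPC_of_perfMor f hf) m _).1
    ((((isPerfect_iff E).1 hE).locPC m).of_iso e.symm), fun x => ?_⟩
  obtain ⟨V, a, b, hxV, hV⟩ := exists_nbhd_amplitude hE R e x
  obtain ⟨U, d, hxU, hd⟩ := exists_torDimLE_stalk f hf x
  refine ⟨V ⊓ U, a - d, b, ⟨hxV, hxU⟩, fun y hy => ?_⟩
  letI : Algebra (Y.presheaf.stalk (f y)) (X.presheaf.stalk y) := (f.stalkMap y).hom.toAlgebra
  have h1 := H9Misc.DRingTor.hasTorAmplitudeIn_restrictScalars (A := Y.presheaf.stalk (f y))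
    (B := X.presheaf.stalk y) d
    ((H9Misc.DRingTor.torDimLE_iff d (ModuleCat.of _ (X.presheaf.stalk y))).1 (hd y hy.2))
    _ _ _ (hV y hy.1)
  refine H9Misc.DRingTor.of_iso ?_ h1
  exact (ModuleCat.restrictScalars (f.stalkMap y).hom).mapDerivedCategoryFactors.app _ ≪≫
    DerivedCategory.Q.mapIso (HomologicalComplex.Hom.isoOfComponents (fun _ => Iso.refl _)
      (fun _ _ _ => by simp))

/-- Direct images of perfect objects along a closed immersion with perfect composite to the base. -/
theorem isPerfect_rpush_closed {Z : Scheme.{u}} (i : Z ⟶ X) [IsClosedImmersion i] [DCoh.HasRpush i]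
    [Smooth f] (hf : MoreMor.IsPerfectMor (i ≫ f)) {E : DCoh.D Z} (hE : DCoh.IsPerfect E) :
    DCoh.IsPerfect ((DCoh.Rpush i).obj E) := by
  let C := DerivedCategory.Q.objPreimage E
  let e : DCoh.toD Z C ≅ E := repIso E
  obtain ⟨e'⟩ := nonempty_rpush_iso_closed i C
  exact DQGen.isPerfect_of_iso (e'.symm ≪≫ (DCoh.Rpush i).mapIso e)
    ((S6217.result i f C).1 (isPerfectRel_of_isPerfect _ hf hE C e))

end Groth.Agent.ProjPush
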