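import Groth.Agent.ProjPush.ChartPush
import Groth.Agent.ProjPush.PerfRel
import Groth.Agent.PushAmp.Restrict
import Groth.Agent.S6217

/-!
# Relative perfectness of projective direct images
-/

set_option linter.style.haveILetI false
set_option backward.isDefEq.respectTransparency false
set_option backward.isDefEq.respectTransparency.types false
set_option synthInstance.maxHeartbeats 200000

universe u

open CategoryTheory CategoryTheory.Limits AlgebraicGeometry TopologicalSpace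

attribute [local instance] HasDerivedCategory.standard

noncomputable section

namespace Groth.Agent.ProjPush

open Groth.Agent.KFlatLib Groth.Agent.DQGen

/-- Relative perfectness restricts to opens. -/
lemma isPerfectRel_restrict {X S : Scheme.{u}} (f : X ⟶ S) (O : X.Opens) {F : CochainComplex X.Modules ℤ}
    (h : DerSch.IsPerfectRel f F) : DerSch.IsPerfectRel (O.ι ≫ f) ((DCoh.restrictCx O).obj F) := by
  refine ⟨fun m => PushAmp.relPC_of_iso _ ((rhoQ O.ι).app F) (PushAmp.relPC_restrict O.ι f (h.1 m)), fun x => ?_⟩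
  obtain ⟨V, a, b, hxV, hV⟩ := h.2 (O.ι.base x)
  exact ⟨O.ι ⁻¹ᵁ V, a, b, hxV, fun x' hx' =>
    (PushAmp.hasTorAmplitudeAt_restrict_iff O.ι f F x' a b).2 (hV _ hx')⟩

/-- A closed immersion into a smooth scheme: perfect direct image gives relative perfectness. -/
lemma isPerfectRel_of_push {X Y S : Scheme.{u}} (i : X ⟶ Y) [IsClosedImmersion i] (g : Y ⟶ S) [Smooth g]
    {F : CochainComplex X.Modules ℤ} (h : DCoh.IsPerfect ((PushAmp.pushD i).obj (DCoh.toD X F))) :
    DerSch.IsPerfectRel (i ≫ g) F :=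
  (S6217.result i g F).2 (DQGen.isPerfect_of_iso ((PushAmp.pushDQ i).app F) h)

variable {X Y S : Scheme.{u}} (r : ℕ) (i : X ⟶ CohB1.ProjSpaceOver r Y) [IsClosedImmersion i]

/-- Relative perfectness is preserved by projective direct images. -/
theorem isPerfectRel_rpush_projective [DCoh.HasRpush (i ≫ CohB1.ProjSpaceOver.toBase r Y)] (q : Y ⟶ S)
    [LocallyOfFiniteType q] (F : CochainComplex X.Modules ℤ)
    (hF : DerSch.IsPerfectRel ((i ≫ CohB1.ProjSpaceOver.toBase r Y) ≫ q) F) (F' : CochainComplex Y.Modules ℤ)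
    (e' : DCoh.toD Y F' ≅ (DCoh.Rpush (i ≫ CohB1.ProjSpaceOver.toBase r Y)).obj (DCoh.toD X F)) :
    DerSch.IsPerfectRel q F' := by
  refine ⟨fun m => PushAmp.relPC_of_iso q e'.symm (relPC_rpush_projective r i q _ hF.1 m), fun y => ?_⟩
  obtain ⟨V, hV, hyV, -⟩ := exists_isAffineOpen_mem_and_subset (x := q.base y) (U := (⊤ : S.Opens)) trivial
  obtain ⟨U, hU, hyU, hUV⟩ := exists_isAffineOpen_mem_and_subset (x := y) (U := q ⁻¹ᵁ V) hyV
  obtain ⟨k, φ, hφ⟩ := PushAmp.exists_chart q hV hU hUV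
  haveI := PushAmp.isClosedImmersion_imm hU φ hφ.1
  obtain ⟨i', _, _, _, hfac, ⟨e⟩⟩ := exists_chart_iso r i U φ (DCoh.toD X F)
  let P := MvPolynomial (Fin k) Γ(S, V)
  haveI := smooth_toBase' r (Spec (CommRingCat.of P))
  haveI := smooth_mvPolynomial_C Γ(S, V) k
  let g : Spec (CommRingCat.of P) ⟶ S :=
    Spec.map (CommRingCat.ofHom (MvPolynomial.C : Γ(S, V) →+* _)) ≫ hV.fromSpec
  haveI : Smooth g := inferInstance
  have hg : PushAmp.imm U φ ≫ g = U.ι ≫ q := imm_fac q hV hU hUV φ hφ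
  let O := (i ≫ CohB1.ProjSpaceOver.toBase r Y) ⁻¹ᵁ U
  haveI : Smooth (CohB1.ProjSpaceOver.toBase r (Spec (CommRingCat.of P)) ≫ g) := inferInstance
  have hw : i' ≫ CohB1.ProjSpaceOver.toBase r (Spec (CommRingCat.of P)) ≫ g =
      O.ι ≫ (i ≫ CohB1.ProjSpaceOver.toBase r Y) ≫ q := by
    rw [reassoc_of% hfac]
    exact (congrArg (_ ≫ ·) hg).trans (morphismRestrict_ι_assoc (i ≫ CohB1.ProjSpaceOver.toBase r Y) U q)
  have hO : DerSch.IsPerfectRel (i' ≫ CohB1.ProjSpaceOver.toBase r (Spec (CommRingCat.of P)) ≫ g)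
      ((DCoh.restrictCx O).obj F) := by
    rw [hw]
    exact isPerfectRel_restrict _ O hF
  obtain ⟨c⟩ := nonempty_rpush_iso_closed i' ((DCoh.restrictCx O).obj F)
  have hperf : DCoh.IsPerfect ((DCoh.Rpush i').obj ((rho O.ι).obj (DCoh.toD X F))) :=
    DQGen.isPerfect_of_iso (c.symm ≪≫ (DCoh.Rpush i').mapIso ((rhoQ O.ι).app F).symm) ((S6217.result i' _ _).1 hO)
  have hU' : DCoh.IsPerfect ((PushAmp.pushD (PushAmp.imm U φ)).obj (DCoh.toD _ ((DCoh.restrictCx U).obj F'))) :=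
    DQGen.isPerfect_of_iso (e.symm ≪≫ (PushAmp.pushD _).mapIso ((rho U.ι).mapIso e'.symm ≪≫ (rhoQ U.ι).app F'))
      (isPerfect_rpush_projSpaceOver r _ _ hperf)
  have h := (isPerfectRel_of_push (PushAmp.imm U φ) g hU').2 ⟨y, hyU⟩
  rw [hg] at h
  obtain ⟨V₁, a, b, hy₁, h₁⟩ := h
  refine ⟨U.ι ''ᵁ V₁, a, b, ⟨⟨y, hyU⟩, hy₁, rfl⟩, ?_⟩
  rintro _ ⟨z, hz, rfl⟩
  exact (PushAmp.hasTorAmplitudeAt_restrict_iff U.ι q F' z a b).1 (h₁ z hz)

end Groth.Agent.ProjPush
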