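import Groth.Agent.KRRReg.Section
import Groth.Agent.S6201
import Groth.Agent.KFlatLib.Scheme.ProjClosed
import Groth.Agent.KFlatLib.Scheme.Adjoint
import Groth.Agent.PushAmp.ChartPush

/-!
# Direct images along closed immersions into a projective space
-/

set_option linter.style.haveILetI false
set_option backward.isDefEq.respectTransparency false

universe u

open CategoryTheory CategoryTheory.Limits AlgebraicGeometry

attribute [local instance] HasDerivedCategory.standard

noncomputable section

namespace Groth.Agent.ProjPush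

open Groth.Agent.KFlatLib

lemma smooth_toBase' (r : ℕ) (Y : Scheme.{u}) : Smooth (CohB1.ProjSpaceOver.toBase r Y) :=
  MorphismProperty.pullback_snd (P := @Smooth) _ _ (KRRReg.smooth_toSpec r (ULift.{u} ℤ))

variable {X Y Z : Scheme.{u}} (i : X ⟶ Y) [IsClosedImmersion i] [DCoh.HasRpush i]

/-- Relative pseudo-coherence is pseudo-coherence of the derived direct image. -/
theorem locPC_rpush_closed_iff (g : Y ⟶ Z) [Smooth g] (E : DCoh.D X) (m : ℤ) :
    DerSch.IsPseudoCoherentRel (i ≫ g) m E ↔ LocPC m ((DCoh.Rpush i).obj E) := by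
  let C := DerivedCategory.Q.objPreimage E
  let e : DCoh.toD X C ≅ E := repIso E
  obtain ⟨e'⟩ := nonempty_rpush_iso_closed i C
  have h := S6201.result i g m C
  rw [isPseudoCoherentD_iff] at h
  refine ⟨fun hE => ?_, fun hE => ?_⟩
  · exact (h.1 (PushAmp.relPC_of_iso _ e.symm hE)).of_iso (e'.symm ≪≫ (DCoh.Rpush i).mapIso e)
  · exact PushAmp.relPC_of_iso _ e (h.2 (hE.of_iso ((DCoh.Rpush i).mapIso e.symm ≪≫ e')))

/-- For a pseudo-coherent composite, the closed immersion preserves pseudo-coherence. -/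
theorem locPC_rpush_of_nPC (g : Y ⟶ Z) [Smooth g] (hf : ∀ n : ℤ, DerSch.IsNPseudoCoherent (i ≫ g) n)
    (E : DCoh.D X) (m : ℤ) (hE : LocPC m E) : LocPC m ((DCoh.Rpush i).obj E) :=
  (locPC_rpush_closed_iff i g E m).1 ((PushAmp.locPC_iff_relPC (i ≫ g) hf m E).1 hE)

end Groth.Agent.ProjPush
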