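import Groth.Agent.ProjPush.PushPCGen
import Groth.Agent.ProjPush.Closed
import Groth.Agent.PushAmp.ChartAll
import Groth.Agent.PushAmp.ChartIndep
import Groth.Agent.KRRReg.BaseChange

/-!
# Direct images in a chart of the base
-/

set_option linter.style.haveILetI false
set_option backward.isDefEq.respectTransparency false
set_option backward.isDefEq.respectTransparency.types false
set_option synthInstance.maxHeartbeats 200000

universe u

open CategoryTheory CategoryTheory.Limits AlgebraicGeometry TopologicalSpace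

attribute [local instance] HasDerivedCategory.standard

noncomputable section

namespace Groth.Agent.ProjPush

open Groth.Agent.KFlatLib Groth.Agent.DQGen

lemma smooth_mvPolynomial_C (R : Type u) [CommRing R] (k : ℕ) :
    Smooth (Spec.map (CommRingCat.ofHom (MvPolynomial.C : R →+* MvPolynomial (Fin k) R))) := by
  rw [HasRingHomProperty.Spec_iff (P := @Smooth), CommRingCat.hom_ofHom,
    ← MvPolynomial.algebraMap_eq, RingHom.smooth_algebraMap]
  exact ⟨inferInstance, inferInstance⟩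

lemma imm_fac {Y S : Scheme.{u}} (q : Y ⟶ S) {V : S.Opens} (hV : IsAffineOpen V) {U : Y.Opens}
    (hU : IsAffineOpen U) (h : U ≤ q ⁻¹ᵁ V) {k : ℕ} (φ : MvPolynomial (Fin k) Γ(S, V) →+* Γ(Y, U))
    (hφ : DerSch.IsChart q U V h φ) :
    PushAmp.imm U φ ≫ Spec.map (CommRingCat.ofHom (MvPolynomial.C : Γ(S, V) →+* _)) ≫ hV.fromSpec =
      U.ι ≫ q := by
  have e : Spec.map (CommRingCat.ofHom φ) ≫
      Spec.map (CommRingCat.ofHom (MvPolynomial.C : Γ(S, V) →+* _)) = Spec.map (q.appLE V U h) := by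
    rw [← Spec.map_comp, ← CommRingCat.ofHom_comp, hφ.2]
    rfl
  show (U.toSpecΓ ≫ Spec.map (CommRingCat.ofHom φ)) ≫ _ = _
  rw [Category.assoc, reassoc_of% e, IsAffineOpen.SpecMap_appLE_fromSpec q hV hU h, ← hU.isoSpec_hom,
    ← Category.assoc]
  exact congrArg (· ≫ q) (Iso.hom_inv_id_assoc hU.isoSpec U.ι)

/-- A termwise direct image along a closed immersion is the derived one. -/
lemma nonempty_pushD_rpush {A B : Scheme.{u}} (i : A ⟶ B) [IsClosedImmersion i] [DCoh.HasRpush i]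
    (K : DCoh.D A) : Nonempty ((PushAmp.pushD i).obj K ≅ (DCoh.Rpush i).obj K) := by
  obtain ⟨e⟩ := nonempty_rpush_iso_closed i (DerivedCategory.Q.objPreimage K)
  exact ⟨(PushAmp.pushD i).mapIso (repIso K).symm ≪≫ (PushAmp.pushDQ i).app _ ≪≫ e.symm ≪≫
    (DCoh.Rpush i).mapIso (repIso K)⟩

variable {X Y S : Scheme.{u}} (r : ℕ) (i : X ⟶ CohB1.ProjSpaceOver r Y) [IsClosedImmersion i]

local notation "f₀" => (i ≫ CohB1.ProjSpaceOver.toBase r Y)

/-- In a chart of the base the morphism is a closed subscheme of projective space over affine space. -/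
lemma exists_chart_closed (U : Y.Opens) {P : Type u} [CommRing P] (φ : P →+* Γ(Y, U))
    [IsClosedImmersion (PushAmp.imm U φ)] :
    ∃ i' : ((f₀ ⁻¹ᵁ U : X.Opens) : Scheme.{u}) ⟶ CohB1.ProjSpaceOver r (Spec (CommRingCat.of P)),
      IsClosedImmersion i' ∧ i' ≫ CohB1.ProjSpaceOver.toBase r (Spec (CommRingCat.of P)) =
        (f₀ ∣_ U) ≫ PushAmp.imm U φ := by
  obtain ⟨t, ht, htf⟩ := exists_iso_preimage r Y U
  let m := KRR.projSpaceMap r (PushAmp.imm U φ)
  haveI : IsClosedImmersion m :=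
    MorphismProperty.of_isPullback (P := @IsClosedImmersion)
      (KRRReg.isPullback_projSpaceMap (n := r) (PushAmp.imm U φ) (projSpaceMap_toBase r _ _)).flip inferInstance
  let i₁ : ((f₀ ⁻¹ᵁ U : X.Opens) : Scheme.{u}) ⟶
      ((CohB1.ProjSpaceOver.toBase r Y ⁻¹ᵁ U : (CohB1.ProjSpaceOver r Y).Opens) : Scheme.{u}) :=
    i ∣_ (CohB1.ProjSpaceOver.toBase r Y ⁻¹ᵁ U)
  haveI : IsClosedImmersion i₁ := IsZariskiLocalAtTarget.restrict ‹IsClosedImmersion i› _
  refine ⟨i₁ ≫ t ≫ m, inferInstance, ?_⟩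
  have h : m ≫ CohB1.ProjSpaceOver.toBase r (Spec (CommRingCat.of P)) =
      CohB1.ProjSpaceOver.toBase r (U : Scheme.{u}) ≫ PushAmp.imm U φ := projSpaceMap_toBase r _ _
  rw [Category.assoc, Category.assoc, h, reassoc_of% htf, morphismRestrict_comp i _ U, Category.assoc]

/-- The object pushed to the chart is a direct image from the chart of the source. -/
lemma exists_chart_iso [DCoh.HasRpush f₀] (U : Y.Opens) {P : Type u} [CommRing P] (φ : P →+* Γ(Y, U))
    [IsClosedImmersion (PushAmp.imm U φ)] (E : DCoh.D X) :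
    ∃ (i' : ((f₀ ⁻¹ᵁ U : X.Opens) : Scheme.{u}) ⟶ CohB1.ProjSpaceOver r (Spec (CommRingCat.of P)))
      (_ : IsClosedImmersion i') (_ : DCoh.HasRpush i') (_ : DCoh.HasRpush (CohB1.ProjSpaceOver.toBase r (Spec (CommRingCat.of P)))),
      i' ≫ CohB1.ProjSpaceOver.toBase r (Spec (CommRingCat.of P)) = (f₀ ∣_ U) ≫ PushAmp.imm U φ ∧
      Nonempty ((PushAmp.pushD (PushAmp.imm U φ)).obj ((rho U.ι).obj ((DCoh.Rpush f₀).obj E)) ≅
        (DCoh.Rpush (CohB1.ProjSpaceOver.toBase r (Spec (CommRingCat.of P)))).obj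
          ((DCoh.Rpush i').obj ((rho (f₀ ⁻¹ᵁ U).ι).obj E))) := by
  obtain ⟨i', hi', hfac⟩ := exists_chart_closed r i U φ
  let p := CohB1.ProjSpaceOver.toBase r (Spec (CommRingCat.of P))
  haveI := hasRpush_scheme i'
  haveI := hasRpush_scheme p
  haveI := hasRpush_scheme (i' ≫ p)
  haveI := hasRpush_scheme (f₀ ∣_ U)
  haveI := hasRpush_scheme (PushAmp.imm U φ)
  haveI := hasRpush_scheme ((f₀ ∣_ U) ≫ PushAmp.imm U φ)
  refine ⟨i', hi', inferInstance, inferInstance, hfac, ?_⟩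
  obtain ⟨a⟩ := nonempty_pushD_rpush (PushAmp.imm U φ) ((rho U.ι).obj ((DCoh.Rpush f₀).obj E))
  obtain ⟨e⟩ := nonempty_rpush_restrictD_iso f₀ U
  obtain ⟨c₁⟩ := nonempty_rpush_comp (f₀ ∣_ U) (PushAmp.imm U φ)
  obtain ⟨c₂⟩ := nonempty_rpush_comp i' p
  exact ⟨a ≪≫ (DCoh.Rpush (PushAmp.imm U φ)).mapIso (e.app E) ≪≫ c₁.app _ ≪≫
    eqToIso (by simp only [p, hfac]) ≪≫ (c₂.app _).symm⟩

/-- Relative pseudo-coherence is preserved by projective direct images. -/
theorem relPC_rpush_projective [DCoh.HasRpush f₀] (q : Y ⟶ S) [LocallyOfFiniteType q] (E : DCoh.D X)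
    (hE : ∀ m, DerSch.IsPseudoCoherentRel (f₀ ≫ q) m E) (m : ℤ) :
    DerSch.IsPseudoCoherentRel q m ((DCoh.Rpush f₀).obj E) := by
  refine PushAmp.relPC_of_cpc q fun {V} hV {U} hU hle k φ hφ => ?_
  haveI := PushAmp.isClosedImmersion_imm hU φ hφ.1
  rw [PushAmp.cpc_iff]
  obtain ⟨i', _, _, _, hfac, ⟨e⟩⟩ := exists_chart_iso r i U φ E
  refine LocPC.of_iso e.symm (locPC_rpush_projSpaceOver r _ _ (fun m' => ?_) m)
  haveI := smooth_toBase' r (Spec (CommRingCat.of (MvPolynomial (Fin k) Γ(S, V))))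
  haveI := smooth_mvPolynomial_C Γ(S, V) k
  let w := CohB1.ProjSpaceOver.toBase r (Spec (CommRingCat.of (MvPolynomial (Fin k) Γ(S, V)))) ≫
    Spec.map (CommRingCat.ofHom (MvPolynomial.C : Γ(S, V) →+* _)) ≫ hV.fromSpec
  haveI : Smooth w := inferInstance
  refine (locPC_rpush_closed_iff i' w _ m').1 ?_
  have hw : i' ≫ w = (f₀ ⁻¹ᵁ U).ι ≫ f₀ ≫ q := by
    have h := imm_fac q hV hU hle φ hφ
    simp only [Category.assoc] at h
    simp only [w, reassoc_of% hfac, Category.assoc, h]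
    simpa only [Category.assoc] using morphismRestrict_ι_assoc f₀ U q
  rw [hw]
  exact PushAmp.relPC_restrict (f₀ ⁻¹ᵁ U).ι (f₀ ≫ q) (hE m')

end Groth.Agent.ProjPush
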