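import Groth.Agent.AmpleVan.Kill
import Groth.Agent.TwistFlat.Converse
import Groth.Agent.InvX.BilinIso

/-!
# Multiplication by a section is invertible on its generating locus and locally nilpotent off it
-/

set_option linter.style.haveILetI false
set_option backward.isDefEq.respectTransparency false
set_option backward.isDefEq.respectTransparency.types false

universe u

open CategoryTheory CategoryTheory.Limits AlgebraicGeometry TopologicalSpace Opposite

noncomputable section

namespace Groth.Agent.ProjPush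

open AmpleVan InvX

variable {X : Scheme.{u}} {L : X.Modules}

/-- One more multiplication by `σ`. -/
def step (σ : Γ(L, ⊤)) (n : ℕ) : itw L n ⟶ itw L (n + 1) where
  app M := mulSec σ ((itw L n).obj M)
  naturality _ _ _ := mulSec_naturality σ _

lemma pw_comp_step (σ : Γ(L, ⊤)) (n : ℕ) : pw σ n ≫ step σ n = pw σ (n + 1) := rfl

/-- The composite of `k` steps. -/
def steps (σ : Γ(L, ⊤)) (n : ℕ) : ∀ k, itw L n ⟶ itw L (n + k)
  | 0 => 𝟙 _
  | k + 1 => steps σ n k ≫ step σ (n + k)

lemma steps_succ (σ : Γ(L, ⊤)) (n k : ℕ) : steps σ n (k + 1) = steps σ n k ≫ step σ (n + k) := rfl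

lemma isFrame_res_genLocus (s : Coh.structureModule X ⟶ L) :
    IsFrame (AModX.res L (le_top : CohB1.genLocus L s ≤ ⊤) (one s)) := by
  refine isFrame_of_germ fun x hx => ?_
  obtain ⟨U, hxU, hU⟩ := mem_genLocus hx
  have h := hU.germ_bijective hxU
  rw [InvX.germ_res' le_top hxU] at h
  rw [InvX.germ_res' le_top hx]
  exact h

/-- Multiplication by `σ` is bijective on affines in the generating locus. -/
lemma bijective_mulSec (hL : PicF.IsInvertible L) (s : Coh.structureModule X ⟶ L) {M : X.Modules}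
    (hM : Coh.IsQCoh M) {W : X.Opens} (hW : IsAffineOpen W) (hle : W ≤ CohB1.genLocus L s) :
    Function.Bijective ((mulSec (one s) M).app W) := by
  have he := (isFrame_res_genLocus s).res hle
  rw [AModX.res_res] at he
  exact TwistFlat.bijective_tmul_frame hM (ProjUPX.isQCoh_of_isInvertible hL) hW he

lemma isIso_restrict_mulSec (hL : PicF.IsInvertible L) (s : Coh.structureModule X ⟶ L) {M : X.Modules}
    (hM : Coh.IsQCoh M) :
    IsIso ((Scheme.Modules.restrictFunctor (CohB1.genLocus L s).ι).map (mulSec (one s) M)) := by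
  let V := CohB1.genLocus L s
  have key : ∀ (U : V.toScheme.Opens) (x : V.toScheme), x ∈ U → ∃ (W : V.toScheme.Opens),
      W ≤ U ∧ x ∈ W ∧ Function.Bijective (((Scheme.Modules.restrictFunctor V.ι).map (mulSec (one s) M)).app W) := by
    intro U x hx
    obtain ⟨_, ⟨W, hW, rfl⟩, hxW, hWU⟩ :=
      V.toScheme.isBasis_affineOpens.exists_subset_of_mem_open (show x ∈ U from hx) U.2
    exact ⟨W, hWU, hxW, bijective_mulSec hL s hM (hW.image_of_isOpenImmersion V.ι) (V.ι_image_le W)⟩
  haveI : Mono ((Scheme.Modules.restrictFunctor V.ι).map (mulSec (one s) M)) := by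
    refine QCoh.mono_of_app_injective _ fun U => (injective_iff_map_eq_zero _).2 fun t ht => ?_
    refine QCoh.eq_zero_of_locally U t fun x hx => ?_
    obtain ⟨W, hWU, hxW, hb⟩ := key U x hx
    refine ⟨W, homOfLE hWU, hxW, hb.1 ?_⟩
    rw [QCoh.map_app_comm, ht, map_zero, map_zero]
  haveI : Epi ((Scheme.Modules.restrictFunctor V.ι).map (mulSec (one s) M)) := by
    refine RelTildeX.epi_of_locally _ fun U t x hx => ?_
    obtain ⟨W, hWU, hxW, hb⟩ := key U x hx
    obtain ⟨r, hr⟩ := hb.2 ((((Scheme.Modules.restrictFunctor V.ι).obj ((tw L).obj M))).presheaf.map (homOfLE hWU).op t)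
    exact ⟨W, hWU, hxW, r, hr⟩
  exact isIso_of_mono_of_epi _

lemma isIso_restrict_pw (hL : PicF.IsInvertible L) (s : Coh.structureModule X ⟶ L) {M : X.Modules}
    (hM : Coh.IsQCoh M) : ∀ n,
    IsIso ((Scheme.Modules.restrictFunctor (CohB1.genLocus L s).ι).map ((pw (one s) n).app M))
  | 0 => inferInstanceAs (IsIso ((Scheme.Modules.restrictFunctor _).map (𝟙 M)))
  | n + 1 => by
    haveI := isIso_restrict_pw hL s hM n
    haveI := isIso_restrict_mulSec hL s (isQCoh_itw hL hM n)
    rw [pw_succ, Functor.map_comp]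
    exact inferInstanceAs (IsIso (_ ≫ _))

lemma isZero_restrict_itw (hL : PicF.IsInvertible L) (s : Coh.structureModule X ⟶ L) {M : X.Modules}
    (hM : Coh.IsQCoh M) (hz : IsZero ((Scheme.Modules.restrictFunctor (CohB1.genLocus L s).ι).obj M))
    (n : ℕ) : IsZero ((Scheme.Modules.restrictFunctor (CohB1.genLocus L s).ι).obj ((itw L n).obj M)) :=
  haveI := isIso_restrict_pw hL s hM n
  hz.of_iso (asIso ((Scheme.Modules.restrictFunctor (CohB1.genLocus L s).ι).map ((pw (one s) n).app M))).symm

lemma steps_eq_zero {W : X.Opens} {e : Γ(L, W)} {σ : Γ(L, ⊤)} {g : Γ(X, W)}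
    (hg : AModX.res L (le_top : W ≤ ⊤) σ = g • e) (M : X.Modules) :
    ∀ (k n : ℕ) (t : Γ((itw L n).obj M, W)), g ^ k • t = 0 → ((steps σ n k).app M).app W t = 0
  | 0, n, t, h => by rw [pow_zero, one_smul] at h; exact h
  | k + 1, n, t, h => by
    rw [steps_succ]
    show (mulSec σ ((itw L (n + k)).obj M)).app W (((steps σ n k).app M).app W t) = 0
    rw [mulSec_app, hg, tmul_smul_right, ← tmul_smul_left, ← Scheme.Modules.Hom.app_smul,
      steps_eq_zero hg M k n (g • t) (by rw [← mul_smul, ← pow_succ, h]), tmul_zero_left]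

/-- A section of a twist of a module vanishing on the generating locus is killed by further steps. -/
theorem exists_steps_eq_zero (hL : PicF.IsInvertible L) (s : Coh.structureModule X ⟶ L) {M : X.Modules}
    (hM : Coh.IsQCoh M) (hz : IsZero ((Scheme.Modules.restrictFunctor (CohB1.genLocus L s).ι).obj M))
    (n : ℕ) {W : X.Opens} (hW : IsAffineOpen W) {e : Γ(L, W)} (he : IsFrame e) (t : Γ((itw L n).obj M, W)) :
    ∃ k, ((steps (one s) n k).app M).app W t = 0 := by
  obtain ⟨g, hg⟩ := he.exists_coord le_rfl (AModX.res L (le_top : W ≤ ⊤) (one s))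
  rw [AModX.res_self] at hg
  have hle : X.basicOpen g ≤ CohB1.genLocus L s := (genLocus_inf s he hg).ge.trans inf_le_left
  let V := CohB1.genLocus L s
  have hs : Subsingleton Γ(((itw L n).obj M), V.ι ''ᵁ (V.ι ⁻¹ᵁ X.basicOpen g)) := by
    have hzero := isZero_restrict_itw hL s hM hz n
    exact ⟨fun a b => (congr(($(hzero.eq_of_src (𝟙 _) 0)).app (V.ι ⁻¹ᵁ X.basicOpen g) a) : _).trans
      (congr(($(hzero.eq_of_src (𝟙 _) 0)).app (V.ι ⁻¹ᵁ X.basicOpen g) b) : _).symm⟩
  have hV : V.ι ''ᵁ (V.ι ⁻¹ᵁ X.basicOpen g) = X.basicOpen g := by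
    rw [Scheme.Hom.image_preimage_eq_opensRange_inf, Scheme.Opens.opensRange_ι, inf_eq_right.2 hle]
  rw [hV] at hs
  obtain ⟨k, hk⟩ := QCoh.exists_pow_smul_eq_zero_of_isCompact (isQCoh_itw hL hM n) hW.isCompact g t
    (Subsingleton.elim _ _)
  exact ⟨k, steps_eq_zero hg M k n t hk⟩

end Groth.Agent.ProjPush
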