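import Groth.Agent.ProjPush.MapNT
import Groth.Agent.ProjPush.Kill
import Groth.Agent.DQGen.PowKill
import Groth.Agent.KFlatLib.Scheme.AffineConservative
import Groth.Agent.S7279

/-!
# Powers of an invertible module detect objects with quasi-coherent cohomology

If the generating loci of sections of an invertible module form an affine cover, an object with
quasi-coherent cohomology all of whose twists have no hypercohomology vanishes.
-/

set_option linter.style.haveILetI false
set_option backward.isDefEq.respectTransparency false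

universe w v u

open CategoryTheory CategoryTheory.Limits AlgebraicGeometry Pretriangulated TopologicalSpace ZeroObject DerLim Opposite

attribute [local instance] HasDerivedCategory.standard

noncomputable section

namespace Groth.Agent.ProjPush

open Groth.Agent.KFlatLib Groth.Agent.DQGen AmpleVan

variable {X : Scheme.{u}} (L : X.Modules) [∀ n, (itw L n).IsEquivalence] [∀ n, (itw L n).Additive]

/-- Twisting `n` times on the derived category. -/
abbrev twD (n : ℕ) : DCoh.D X ⥤ DCoh.D X := (itw L n).mapDerivedCategory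

/-- The derived functor of the identity. -/
def twD0 : twD L 0 ≅ 𝟭 (DCoh.D X) :=
  Localization.liftNatIso DerivedCategory.Q (HomologicalComplex.quasiIso X.Modules (ComplexShape.up ℤ))
    ((itw L 0).mapHomologicalComplex _ ⋙ DerivedCategory.Q) DerivedCategory.Q _ _
    (Functor.isoWhiskerRight (Functor.mapHomologicalComplexIdIso X.Modules (ComplexShape.up ℤ))
      DerivedCategory.Q ≪≫ Functor.leftUnitor _)

variable {L}

lemma map_step_le (σ : Γ(L, ⊤)) (E : DCoh.D X) (G : ℕ ⥤ DCoh.D X) (hobj : ∀ n, G.obj n = (twD L n).obj E)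
    (hmap : ∀ n, G.map (homOfLE (Nat.le_succ n)) =
      eqToHom (hobj n) ≫ (mapDNT (step σ n)).app E ≫ eqToHom (hobj (n + 1)).symm) (n : ℕ) :
    ∀ k, G.map (homOfLE (Nat.le_add_right n k)) =
      eqToHom (hobj n) ≫ (mapDNT (steps σ n k)).app E ≫ eqToHom (hobj (n + k)).symm
  | 0 => by
    refine (congrArg G.map (Subsingleton.elim _ (𝟙 n))).trans ((G.map_id n).trans ?_)
    simp [steps, mapDNT_id]
  | k + 1 => by
    rw [← homOfLE_comp (Nat.le_add_right n k) (Nat.le_succ (n + k)), G.map_comp,
      map_step_le σ E G hobj hmap n k, hmap, steps_succ, mapDNT_comp, NatTrans.comp_app]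
    simp

variable (hL : PicF.IsInvertible L)
include hL

lemma isQCohD_twD {E : DCoh.D X} (hE : DCoh.IsQCohD E) (n : ℕ) : DCoh.IsQCohD ((twD L n).obj E) :=
  fun q => isQCoh_of_iso (hIso (itw L n) q E).symm (isQCoh_itw hL (hE q) n)

lemma isIso_rho_mapDNT_pw (s : Coh.structureModule X ⟶ L) {E : DCoh.D X} (hE : DCoh.IsQCohD E) (n : ℕ) :
    IsIso ((rho (CohB1.genLocus L s).ι).map ((mapDNT (pw (InvX.one s) n)).app E)) := by
  let j := (CohB1.genLocus L s).ι
  refine (DerivedCategory.isIso_iff _ _).2 fun q => ?_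
  let Θ := mapDCHomologyIso (Scheme.Modules.restrictFunctor j) q
  refine (NatIso.isIso_map_iff Θ _).2 ?_
  have h := homology_mapDNT (pw (InvX.one s) n) q E
  rw [← Iso.eq_comp_inv, Category.assoc] at h
  show IsIso ((Scheme.Modules.restrictFunctor j).map _)
  rw [h, Functor.map_comp, Functor.map_comp]
  haveI := isIso_restrict_pw hL s (hE q) n
  exact inferInstanceAs (IsIso (_ ≫ _ ≫ _))

/-- The homotopy colimit of the twists of an object vanishing on the generating locus is zero. -/
theorem isZero_hocolim [CompactSpace X] (s : Coh.structureModule X ⟶ L) {C : DCoh.D X}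
    (hC : DCoh.IsQCohD C) (hCV : IsZero ((rho (CohB1.genLocus L s).ι).obj C))
    (G : ℕ ⥤ DCoh.D X) (hobj : ∀ n, G.obj n = (twD L n).obj C)
    (hmap : ∀ n, G.map (homOfLE (Nat.le_succ n)) =
      eqToHom (hobj n) ≫ (mapDNT (step (InvX.one s) n)).app C ≫ eqToHom (hobj (n + 1)).symm)
    {Z : DCoh.D X} {inc : ∀ n, G.obj n ⟶ Z}
    (hZ : IsHocolim G.obj (fun n => G.map (homOfLE (Nat.le_succ n))) Z inc) : IsZero Z := by
  have hcomp : ∀ n k, G.map (homOfLE (Nat.le_add_right n k)) ≫ inc (n + k) = inc n := fun n k => by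
    induction k with
    | zero =>
      exact (congrArg (· ≫ inc (n + 0))
        ((congrArg G.map (Subsingleton.elim _ (𝟙 n))).trans (G.map_id n))).trans (Category.id_comp _)
    | succ k ih =>
      rw [← homOfLE_comp (Nat.le_add_right n k) (Nat.le_succ (n + k)), G.map_comp, Category.assoc]
      exact (congrArg (G.map _ ≫ ·) (TriCat.IsHocolim.comp_i hZ (n + k))).trans ih
  haveI : IsIso (0 : Z ⟶ (0 : DCoh.D X)) := (DerivedCategory.isIso_iff _ _).2 fun q => by
    let H := DerivedCategory.homologyFunctor X.Modules q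
    haveI : PreservesColimitsOfShape (Discrete ℕ) H := ⟨fun {F} =>
      haveI : PreservesColimit (Discrete.functor (F.obj ∘ Discrete.mk)) H :=
        preservesColimit_homology (F.obj ∘ Discrete.mk) q
      preservesColimit_of_iso_diagram H (Discrete.natIsoFunctor (F := F)).symm⟩
    obtain ⟨e, he⟩ := TriCat.exists_colimit_iso H G.obj _ Z inc hZ
    have hz : IsZero ((Scheme.Modules.restrictFunctor (CohB1.genLocus L s).ι).obj (DCoh.HD C q)) :=
      (Functor.map_isZero _ hCV).of_iso (restrictHDIso (CohB1.genLocus L s).ι C q).symm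
    have hι : ∀ n, H.map (inc n) = 0 := fun n => by
      refine Scheme.Modules.hom_ext _ _ fun U => ?_
      ext m
      refine QCoh.eq_zero_of_locally U _ fun x hx => ?_
      obtain ⟨U₁, hxU₁, e₁, he₁⟩ := InvX.exists_frame hL x
      obtain ⟨_, ⟨W, hW, rfl⟩, hxW, hWU⟩ :=
        X.isBasis_affineOpens.exists_subset_of_mem_open (show x ∈ U ⊓ U₁ from ⟨hx, hxU₁⟩) (U ⊓ U₁).2
      have hWU' : W ≤ U := fun y hy => (hWU hy).1
      refine ⟨W, homOfLE hWU', hxW, ?_⟩
      let m' := (H.obj (G.obj n)).presheaf.map (homOfLE hWU').op m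
      let θ : H.obj (G.obj n) ≅ (itw L n).obj (DCoh.HD C q) :=
        H.mapIso (eqToIso (hobj n)) ≪≫ hIso (itw L n) q C
      obtain ⟨k, hk⟩ := exists_steps_eq_zero hL s (hC q) hz n hW
        (he₁.res (show W ≤ U₁ from fun y hy => (hWU hy).2)) (θ.hom.app W m')
      have key : H.map (inc n) = θ.hom ≫ (steps (InvX.one s) n k).app (DCoh.HD C q) ≫
          (hIso (itw L (n + k)) q C).inv ≫ H.map (eqToHom (hobj (n + k)).symm ≫ inc (n + k)) := by
        have hsq : H.map ((mapDNT (steps (InvX.one s) n k)).app C) = (hIso (itw L n) q C).hom ≫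
            (steps (InvX.one s) n k).app (DCoh.HD C q) ≫ (hIso (itw L (n + k)) q C).inv := by
          rw [← Category.assoc, Iso.eq_comp_inv]
          exact homology_mapDNT (steps (InvX.one s) n k) q C
        rw [← hcomp n k, map_step_le _ C G hobj hmap n k]
        simp only [θ, Iso.trans_hom, Functor.mapIso_hom, eqToIso.hom, Functor.map_comp, Category.assoc, hsq]
      have hnat := congrArg (fun φ => φ.hom m) ((H.map (inc n)).mapPresheaf.naturality (homOfLE hWU').op)
      refine hnat.symm.trans ?_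
      change (H.map (inc n)).app W m' = 0
      rw [key]
      change ((hIso (itw L (n + k)) q C).inv ≫ H.map (eqToHom (hobj (n + k)).symm ≫ inc (n + k))).app W
        (((steps (InvX.one s) n k).app (DCoh.HD C q)).app W (θ.hom.app W m')) = 0
      rw [hk, map_zero]
    have hz0 : e.hom = 0 := colimit.hom_ext fun n => by rw [he, hι, comp_zero]
    have hzZ : IsZero (H.obj Z) := by
      rw [IsZero.iff_id_eq_zero, ← e.inv_hom_id, hz0, comp_zero]
    exact ⟨0, hzZ.eq_of_src _ _, (Functor.map_isZero H (isZero_zero _)).eq_of_src _ _⟩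
  exact (isZero_zero _).of_iso (asIso (0 : Z ⟶ (0 : DCoh.D X)))

/-- A map from a perfect object to an object vanishing on the generating locus dies after twisting. -/
theorem exists_pw_kill [CompactSpace X] [QuasiSeparatedSpace X] (s : Coh.structureModule X ⟶ L)
    {P C : DCoh.D X} (hP : DCoh.IsPerfect P) (hC : DCoh.IsQCohD C)
    (hCV : IsZero ((rho (CohB1.genLocus L s).ι).obj C)) (α : P ⟶ C) :
    ∃ n, α ≫ (twD0 L).inv.app C ≫ (mapDNT (pw (InvX.one s) n)).app C = 0 := by
  haveI : HasColimitsOfShape (Discrete ℕ) (DCoh.D X) := hasNatSums_D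
  let σ := InvX.one s
  let f : ∀ n, (twD L n).obj C ⟶ (twD L (n + 1)).obj C := fun n => (mapDNT (step σ n)).app C
  let G := Functor.ofSequence f
  have hG : ∀ n, G.map (homOfLE (Nat.le_succ n)) = eqToHom (rfl : G.obj n = (twD L n).obj C) ≫
      (mapDNT (step σ n)).app C ≫ eqToHom (rfl : (twD L (n + 1)).obj C = G.obj (n + 1)) := fun n => by
    rw [eqToHom_refl, eqToHom_refl, Category.id_comp, Category.comp_id]
    exact Functor.ofSequence_map_homOfLE_succ f n
  obtain ⟨Z, inc, hZ⟩ := TriCat.exists_isHocolim G.obj (fun n => G.map (homOfLE (Nat.le_succ n)))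
  have hZ0 := isZero_hocolim hL s hC hCV G (fun _ => rfl) hG hZ
  have hc : CompactFor.{u} (𝟭 (DCoh.D X)) (PQ (⊥ : X.Opens)) P := compactIn_of_isPerfect _ hP
  obtain ⟨k, hk⟩ := killed_of_isHocolim hc G hZ (fun n => (pq_bot_iff _).2 (isQCohD_twD hL hC n))
    (α ≫ (twD0 L).inv.app C) (hZ0.eq_of_tgt _ _)
  refine ⟨k, ?_⟩
  change (α ≫ (twD0 L).inv.app C) ≫ G.map (homOfLE (Nat.zero_le k)) = 0 at hk
  have hpw : ∀ j, G.map (homOfLE (Nat.zero_le j)) = (mapDNT (pw σ j)).app C := fun j => by
    induction j with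
    | zero =>
      refine (congrArg G.map (Subsingleton.elim _ (𝟙 0))).trans ((G.map_id 0).trans ?_)
      exact ((congrArg (·.app C) (mapDNT_id (F := itw L 0))).trans (NatTrans.id_app _ _)).symm
    | succ j ih =>
      rw [← homOfLE_comp (Nat.zero_le j) (Nat.le_succ j), G.map_comp, ih, ← pw_comp_step, mapDNT_comp,
        NatTrans.comp_app]
      exact congrArg (_ ≫ ·) (Functor.ofSequence_map_homOfLE_succ f j)
  rw [hpw, Category.assoc] at hk
  exact hk

end Groth.Agent.ProjPush
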