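import Groth.Agent.ProjPush.TwistApply

/-!
# Detection of the vanishing of one cohomology sheaf by twists
-/

set_option linter.style.haveILetI false
set_option backward.isDefEq.respectTransparency false
set_option backward.isDefEq.respectTransparency.types false

universe u

open CategoryTheory CategoryTheory.Limits AlgebraicGeometry Pretriangulated TopologicalSpace Opposite

attribute [local instance] HasDerivedCategory.standard

noncomputable section

namespace Groth.Agent.ProjPush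

open Groth.Agent.KFlatLib Groth.Agent.DQGen AmpleVan Groth.Agent.H23.PicMul

/-- On an affine scheme maps from a shift of the structure sheaf detect one cohomology sheaf. -/
theorem isZero_hd_of_affine {V : Scheme.{u}} [IsAffine V] {E : DCoh.D V} (hE : DCoh.IsQCohD E) (i : ℤ)
    (h : ∀ φ : DCoh.inD V (Coh.structureModule V) ⟶ E⟦i⟧, φ = 0) : IsZero (DCoh.HD E i) := by
  obtain ⟨eO⟩ := nonempty_secObj_top V
  refine isZero_of_sections (hE i) fun x => ⟨⊤, trivial, isAffineOpen_top V, ?_⟩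
  have hb := bijH0_of_isQCohD (isQCohD_shift hE i) (isAffineOpen_top V)
  have hs : ∀ t : secObj (⊤ : V.Opens) ⟶ DCoh.HD E i, t = 0 := fun t => by
    let eH : DCoh.HD (E⟦i⟧) 0 ≅ DCoh.HD E i :=
      ((DerivedCategory.homologyFunctor V.Modules 0).shiftIso i 0 i (add_zero i)).app E
    obtain ⟨φ, hφ⟩ := hb.2 (t ≫ eH.inv)
    have h0 : φ = 0 := by
      rw [← cancel_epi ((DerivedCategory.singleFunctor V.Modules 0).map eO.hom), comp_zero]
      exact h _
    rw [← cancel_mono eH.inv, zero_comp, ← hφ, h0, psi_zero]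
  have key : Subsingleton Γ(DCoh.HD E i, (⊤ : V.Opens).ι ''ᵁ ⊤) :=
    ⟨fun a b => (secEquiv ⊤ _).symm.injective ((hs _).trans (hs _).symm)⟩
  rw [(⊤ : V.Opens).ι_image_top] at key
  exact key

variable {X : Scheme.{u}}

/-- Twists without hypercohomology in one degree kill that cohomology sheaf on an affine generating locus. -/
theorem isZero_hd_rho_of_twists [CompactSpace X] [QuasiSeparatedSpace X] {L : X.Modules}
    [∀ n, (itw L n).IsEquivalence] [∀ n, (itw L n).Additive] (hL : PicF.IsInvertible L)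
    (s : Coh.structureModule X ⟶ L) (haff : IsAffineOpen (CohB1.genLocus L s)) {K : DCoh.D X}
    (hK : DCoh.IsQCohD K) (m : ℤ)
    (h : ∀ (n : ℕ) (φ : (DCoh.inD X (Coh.structureModule X))⟦-m⟧ ⟶ (twD L n).obj K), φ = 0) :
    IsZero ((Scheme.Modules.restrictFunctor (CohB1.genLocus L s).ι).obj (DCoh.HD K m)) := by
  let V := CohB1.genLocus L s
  let j := V.ι
  haveI : IsAffine V.toScheme := haff
  haveI : QuasiCompact j := by
    haveI := InvX.isAffineHom_genLocus_ι hL s
    infer_instance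
  refine IsZero.of_iso ?_ (restrictHDIso j K m).symm
  refine isZero_hd_of_affine (isQCohD_rho j hK) m fun ψ => ?_
  let O := DCoh.inD X (Coh.structureModule X)
  let P := O⟦-m⟧
  obtain ⟨C, b, c, hT⟩ := distinguished_cocone_triangle ((adj j).unit.app K)
  have hR : DCoh.IsQCohD ((DCoh.Rpush j).obj ((rho j).obj K)) := isQCohD_rpush j (isQCohD_rho j hK)
  have hC : DCoh.IsQCohD C := isQCohD_obj₃ hT hK hR
  have hP : DCoh.IsPerfect P :=
    ((PP (⊥ : X.Opens)).le_shift (-m) _ ⟨S7279.isPerfect_structure X, isZero_rho_bot _⟩).1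
  let ψ' : (rho j).obj P ⟶ (rho j).obj K :=
    ((rho j).commShiftIso (-m)).hom.app O ≫ ((rhoStructureIso j).hom ≫ ψ)⟦-m⟧' ≫
      (shiftFunctorCompIsoId (DCoh.D V.toScheme) m (-m) (by simp)).hom.app _
  suffices hψ' : ψ' = 0 by
    have h1 : ((rhoStructureIso j).hom ≫ ψ)⟦-m⟧' = 0 := by
      rw [← cancel_epi (((rho j).commShiftIso (-m)).hom.app O), comp_zero,
        ← cancel_mono ((shiftFunctorCompIsoId (DCoh.D V.toScheme) m (-m) (by simp)).hom.app _), zero_comp,
        Category.assoc]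
      exact hψ'
    have h2 : (rhoStructureIso j).hom ≫ ψ = 0 :=
      (shiftFunctor _ (-m)).map_injective (h1.trans (Functor.map_zero _ _ _).symm)
    rwa [← cancel_epi (rhoStructureIso j).hom, comp_zero]
  let t : P ⟶ (DCoh.Rpush j).obj ((rho j).obj K) := (adj j).homEquiv _ _ ψ'
  obtain ⟨n, hn⟩ := exists_pw_kill hL s hP hC (isZero_rho_cone_unit j b c hT) (t ≫ b)
  let τ : 𝟭 (DCoh.D X) ⟶ twD L n := (twD0 L).inv ≫ mapDNT (pw (InvX.one s) n)
  have hn' : (t ≫ τ.app _) ≫ (twD L n).map b = 0 := by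
    refine (Category.assoc _ _ _).trans ((congrArg (t ≫ ·) (τ.naturality b).symm).trans ?_)
    exact (Category.assoc _ _ _).symm.trans hn
  obtain ⟨x, hx⟩ := Triangle.coyoneda_exact₂ _ ((twD L n).map_distinguished _ hT) (t ≫ τ.app _) hn'
  have hx0 : t ≫ τ.app _ = 0 := by
    rw [hx, show x = 0 from h n x, zero_comp]
  have hr : (rho j).map t ≫ (rho j).map (τ.app _) = 0 := by
    rw [← Functor.map_comp, hx0, Functor.map_zero]
  haveI : IsIso ((rho j).map (τ.app ((DCoh.Rpush j).obj ((rho j).obj K)))) := by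
    haveI := isIso_rho_mapDNT_pw hL s hR n
    rw [NatTrans.comp_app, Functor.map_comp]
    infer_instance
  have ht : (rho j).map t = 0 := by
    rw [← cancel_mono ((rho j).map (τ.app ((DCoh.Rpush j).obj ((rho j).obj K)))), zero_comp]
    exact hr
  have := ((adj j).homEquiv P ((rho j).obj K)).symm_apply_apply ψ'
  rw [Adjunction.homEquiv_counit] at this
  rw [← this]
  exact (congrArg (· ≫ _) ht).trans zero_comp

/-- Negative powers of an invertible module with an affine generating cover detect one cohomology sheaf. -/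
theorem isZero_hd_of_neg_powers [CompactSpace X] [QuasiSeparatedSpace X] (L L' : X.Modules)
    (hL : PicF.IsInvertible L) (hL' : PicF.IsInvertible L') (hinv : PicF.cl L * PicF.cl L' = 1)
    (hinv' : PicF.cl L' * PicF.cl L = 1) {κ : Type*}
    (s : κ → (Coh.structureModule X ⟶ L)) (hcov : ∀ x : X, ∃ i, x ∈ CohB1.genLocus L (s i))
    (haff : ∀ i, IsAffineOpen (CohB1.genLocus L (s i))) {K : DCoh.D X} (hK : DCoh.IsQCohD K) (m : ℤ)
    (h : ∀ (n : ℕ) (φ : (DCoh.inD X ((itw L' n).obj (Coh.structureModule X)))⟦-m⟧ ⟶ K), φ = 0) :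
    IsZero (DCoh.HD K m) := by
  haveI : ∀ n, (itw L n).IsEquivalence := isEquivalence_itw hL
  haveI : ∀ n, (itw L' n).IsEquivalence := isEquivalence_itw hL'
  haveI : ∀ n, (itw L n).Additive := fun n => Functor.additive_of_preserves_binary_products _
  haveI : ∀ n, (itw L' n).Additive := fun n => Functor.additive_of_preserves_binary_products _
  refine isZero_of_isZero_restrict _ fun x => ?_
  obtain ⟨i, hi⟩ := hcov x
  refine ⟨_, hi, isZero_hd_rho_of_twists hL (s i) (haff i) hK m fun n φ => ?_⟩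
  obtain ⟨e₁⟩ := nonempty_itw_comp L L' hinv n
  obtain ⟨e₂⟩ := nonempty_itw_comp L' L hinv' n
  obtain ⟨E₁⟩ := nonempty_mapD_comp (itw L n) (itw L' n) e₁
  obtain ⟨E₂⟩ := nonempty_mapD_comp (itw L' n) (itw L n) e₂
  haveI : (twD L' n).Faithful := Functor.Faithful.of_comp_iso E₂
  let O := DCoh.inD X (Coh.structureModule X)
  let a : (DCoh.inD X ((itw L' n).obj (Coh.structureModule X)))⟦-m⟧ ≅ (twD L' n).obj (O⟦-m⟧) :=
    (shiftFunctor (DCoh.D X) (-m)).mapIso
      (((itw L' n).mapDerivedCategorySingleFunctor 0).app (Coh.structureModule X)).symm ≪≫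
      (((twD L' n).commShiftIso (-m)).app O).symm
  have h0 := h n (a.hom ≫ (twD L' n).map φ ≫ E₁.hom.app K)
  refine (twD L' n).map_injective ?_
  rw [Functor.map_zero, ← cancel_epi a.hom, comp_zero, ← cancel_mono (E₁.hom.app K), zero_comp,
    Category.assoc]
  exact h0

section Proj

variable {n : ℕ} {A : Type u} [CommRing A] {Z : Scheme.{u}} (g : Z ⟶ CohB1.ProjSpace n A)

/-- Negative twists detect one cohomology sheaf. -/
theorem isZero_hd_of_twists_neg [IsAffineHom g] [QuasiSeparatedSpace Z] {K : DCoh.D Z} (hK : DCoh.IsQCohD K)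
    (m : ℤ) (h : ∀ (d : ℕ) (φ : (DCoh.inD Z (Tw g (-(d : ℤ))))⟦-m⟧ ⟶ K), φ = 0) :
    IsZero (DCoh.HD K m) := by
  haveI : CompactSpace Z := by
    haveI := PnCoh.Chow.isProper_toSpec n A
    haveI : CompactSpace (CohB1.ProjSpace n A) :=
      QuasiCompact.compactSpace_of_compactSpace (CohB1.ProjSpace.toSpec n A)
    exact QuasiCompact.compactSpace_of_compactSpace g
  have hinv : PicF.cl (Tw g 1) * PicF.cl (Tw g (-1)) = 1 := by
    rw [← cl_Tw_add]; exact cl_Tw_zero g
  have hinv' : PicF.cl (Tw g (-1)) * PicF.cl (Tw g 1) = 1 := by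
    rw [← cl_Tw_add]; exact cl_Tw_zero g
  obtain ⟨e⟩ := PicClLib.nonempty_pullback_structureModule g
  let s : Fin (n + 1) → (Coh.structureModule Z ⟶ Tw g 1) := fun j =>
    e.inv ≫ (Scheme.Modules.pullback g).map (InvX.ofSect (ProjUPX.sec (CohB1.polyGrading n A) (X_mem j)))
  have hs : ∀ j, CohB1.genLocus (Tw g 1) (s j) =
      g ⁻¹ᵁ Proj.basicOpen (CohB1.polyGrading n A) (MvPolynomial.X j : MvPolynomial (Fin (n + 1)) A) := fun j => by
    refine (InvX.genLocus_pullback g (PnCoh.Finite.isInvertible_twist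
      (fun j : Fin (n + 1) => (MvPolynomial.X j : MvPolynomial (Fin (n + 1)) A)) X_mem cov_X 1) _ e.symm).trans ?_
    exact congrArg (g ⁻¹ᵁ ·) (AmpleX.genLocus_sec (CohB1.polyGrading n A)
      (fun j : Fin (n + 1) => (MvPolynomial.X j : MvPolynomial (Fin (n + 1)) A)) X_mem cov_X (X_mem j))
  refine isZero_hd_of_neg_powers (Tw g 1) (Tw g (-1)) (isInvertible_Tw g 1) (isInvertible_Tw g (-1)) hinv hinv' s
    (fun z => ?_) (fun j => ?_) hK m fun d φ => ?_
  · obtain ⟨j, hj⟩ := Opens.mem_iSup.1 ((cov_X (n := n) (A := A)).ge (trivial : g.base z ∈ (⊤ : Opens _)))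
    exact ⟨j, by rw [hs]; exact hj⟩
  · rw [hs]
    exact (Proj.isAffineOpen_basicOpen _ _ (X_mem j) one_pos).preimage g
  · obtain ⟨i⟩ : Nonempty (Tw g (-(d : ℤ)) ≅ (itw (Tw g (-1)) d).obj (Coh.structureModule Z)) := by
      refine cl_eq_iff.1 ?_
      rw [cl_itw, cl_Tw_neg_pow]
      exact (one_mul _).symm
    rw [← cancel_epi (((DerivedCategory.singleFunctor Z.Modules 0).map i.hom)⟦-m⟧'), comp_zero]
    exact h d _

end Proj

end Groth.Agent.ProjPush
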