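import Groth.Agent.ProjPush.Detect

/-!
# Detection of zero by the powers of an invertible module with affine generating loci
-/

set_option linter.style.haveILetI false
set_option backward.isDefEq.respectTransparency false
set_option backward.isDefEq.respectTransparency.types false

universe u

open CategoryTheory CategoryTheory.Limits AlgebraicGeometry Pretriangulated TopologicalSpace Opposite ZeroObject

attribute [local instance] HasDerivedCategory.standard

noncomputable section

namespace Groth.Agent.ProjPush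

open Groth.Agent.KFlatLib Groth.Agent.DQGen AmpleVan

lemma one_injective {X : Scheme.{u}} {M : X.Modules} :
    Function.Injective (InvX.one : (Coh.structureModule X ⟶ M) → Γ(M, ⊤)) := fun f g h =>
  QCoh.hom_ext_app fun U r => by
    rw [InvX.app_eq_smul f (show Γ(X, U) from r), InvX.app_eq_smul g (show Γ(X, U) from r), h]

/-- `j_! O` for the whole space is the structure sheaf. -/
theorem nonempty_secObj_top (X : Scheme.{u}) :
    Nonempty (Coh.structureModule X ≅ secObj (⊤ : X.Opens)) := by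
  have h₁ : (⊤ : X.Opens).ι ''ᵁ ⊤ ≤ ⊤ := le_top
  have h₂ : (⊤ : X.Opens) ≤ (⊤ : X.Opens).ι ''ᵁ ⊤ := (⊤ : X.Opens).ι_image_top.ge
  let u : ∀ {M : X.Modules}, (secObj (⊤ : X.Opens) ⟶ M) → Γ(M, ⊤) := fun {M} φ =>
    AModX.res M h₂ (secEquiv ⊤ M φ)
  have hu : ∀ {M : X.Modules}, Function.Injective (u (M := M)) := fun {M} φ ψ h => by
    refine (secEquiv ⊤ M).injective ?_
    have := congrArg (AModX.res M h₁) h
    simp only [u, AModX.res_res, AModX.res_self] at this
    exact this
  have hnat : ∀ {M N : X.Modules} (φ : secObj (⊤ : X.Opens) ⟶ M) (g : M ⟶ N),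
      u (φ ≫ g) = g.app ⊤ (u φ) := fun φ g => by
    simp only [u, secEquiv_naturality, AModX.app_res]
  let a : Coh.structureModule X ⟶ secObj (⊤ : X.Opens) := InvX.ofSect (u (𝟙 _))
  let b : secObj (⊤ : X.Opens) ⟶ Coh.structureModule X :=
    (secEquiv ⊤ _).symm (AModX.res (Coh.structureModule X) h₁ (InvX.one (𝟙 (Coh.structureModule X))))
  have hb : u b = InvX.one (𝟙 (Coh.structureModule X)) := by
    simp only [u, b, Equiv.apply_symm_apply, AModX.res_res, AModX.res_self]
  refine ⟨⟨a, b, one_injective ?_, hu ?_⟩⟩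
  · show b.app ⊤ (InvX.one a) = _
    rw [InvX.one_ofSect, ← hnat, Category.id_comp, hb]
  · rw [hnat, hb]
    exact InvX.one_ofSect _

/-- On an affine scheme maps from shifts of the structure sheaf detect zero. -/
theorem isZero_of_affine {V : Scheme.{u}} [IsAffine V] {E : DCoh.D V} (hE : DCoh.IsQCohD E)
    (h : ∀ (m : ℤ) (φ : DCoh.inD V (Coh.structureModule V) ⟶ E⟦m⟧), φ = 0) : IsZero E := by
  obtain ⟨eO⟩ := nonempty_secObj_top V
  have hH : ∀ i : ℤ, IsZero (DCoh.HD E i) := fun i => by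
    refine isZero_of_sections (hE i) fun x => ⟨⊤, trivial, isAffineOpen_top V, ?_⟩
    have hb := bijH0_of_isQCohD (isQCohD_shift hE i) (isAffineOpen_top V)
    have hs : ∀ t : secObj (⊤ : V.Opens) ⟶ DCoh.HD E i, t = 0 := fun t => by
      let eH : DCoh.HD (E⟦i⟧) 0 ≅ DCoh.HD E i :=
        ((DerivedCategory.homologyFunctor V.Modules 0).shiftIso i 0 i (add_zero i)).app E
      obtain ⟨φ, hφ⟩ := hb.2 (t ≫ eH.inv)
      have h0 : φ = 0 := by
        rw [← cancel_epi ((DerivedCategory.singleFunctor V.Modules 0).map eO.hom), comp_zero]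
        exact h i _
      rw [← cancel_mono eH.inv, zero_comp, ← hφ, h0, psi_zero]
    have key : Subsingleton Γ(DCoh.HD E i, (⊤ : V.Opens).ι ''ᵁ ⊤) :=
      ⟨fun a b => (secEquiv ⊤ _).symm.injective ((hs _).trans (hs _).symm)⟩
    rw [(⊤ : V.Opens).ι_image_top] at key
    exact key
  haveI : IsIso (0 : E ⟶ (0 : DCoh.D V)) := (DerivedCategory.isIso_iff _ _).2 fun q =>
    ⟨0, (hH q).eq_of_src _ _, (Functor.map_isZero _ (isZero_zero _)).eq_of_src _ _⟩
  exact (isZero_zero _).of_iso (asIso (0 : E ⟶ (0 : DCoh.D V)))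

/-- The structure sheaf restricted to an open. -/
def rhoStructureIso {X U : Scheme.{u}} (j : U ⟶ X) [IsOpenImmersion j] :
    (rho j).obj (DCoh.inD X (Coh.structureModule X)) ≅ DCoh.inD U (Coh.structureModule U) :=
  ((Scheme.Modules.restrictFunctor j).mapDerivedCategorySingleFunctor 0).app _ ≪≫
    (DerivedCategory.singleFunctor U.Modules 0).mapIso (restrictStructureIso j)

variable {X : Scheme.{u}} {L : X.Modules} [∀ n, (itw L n).IsEquivalence] [∀ n, (itw L n).Additive]

/-- Twists without hypercohomology force an object to vanish on an affine generating locus. -/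
theorem isZero_rho_of_twists [CompactSpace X] [QuasiSeparatedSpace X] (hL : PicF.IsInvertible L)
    (s : Coh.structureModule X ⟶ L) (haff : IsAffineOpen (CohB1.genLocus L s)) {K : DCoh.D X}
    (hK : DCoh.IsQCohD K)
    (h : ∀ (n : ℕ) (m : ℤ) (φ : (DCoh.inD X (Coh.structureModule X))⟦m⟧ ⟶ (twD L n).obj K), φ = 0) :
    IsZero ((rho (CohB1.genLocus L s).ι).obj K) := by
  let V := CohB1.genLocus L s
  let j := V.ι
  haveI : IsAffine V.toScheme := haff
  haveI : QuasiCompact j := by
    haveI := InvX.isAffineHom_genLocus_ι hL s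
    infer_instance
  refine isZero_of_affine (isQCohD_rho j hK) fun m ψ => ?_
  let O := DCoh.inD X (Coh.structureModule X)
  let P := O⟦-m⟧
  obtain ⟨C, b, c, hT⟩ := distinguished_cocone_triangle ((adj j).unit.app K)
  have hR : DCoh.IsQCohD ((DCoh.Rpush j).obj ((rho j).obj K)) := isQCohD_rpush j (isQCohD_rho j hK)
  have hC : DCoh.IsQCohD C := isQCohD_obj₃ hT hK hR
  have hP : DCoh.IsPerfect P := by
    refine ((PP (⊥ : X.Opens)).le_shift (-m) _ ⟨S7279.isPerfect_structure X, isZero_rho_bot _⟩).1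
  -- the map to `Rj_* j^* K`
  let ψ' : (rho j).obj P ⟶ (rho j).obj K :=
    ((rho j).commShiftIso (-m)).hom.app O ≫ ((rhoStructureIso j).hom ≫ ψ)⟦-m⟧' ≫
      (shiftFunctorCompIsoId (DCoh.D V.toScheme) m (-m) (by simp)).hom.app _
  suffices hψ' : ψ' = 0 by
    have h1 : ((rhoStructureIso j).hom ≫ ψ)⟦-m⟧' = 0 := by
      rw [← cancel_epi (((rho j).commShiftIso (-m)).hom.app O), comp_zero,
        ← cancel_mono ((shiftFunctorCompIsoId (DCoh.D V.toScheme) m (-m) (by simp)).hom.app _), zero_comp,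
        Category.assoc]
      exact hψ'
    have h2 : (rhoStructureIso j).hom ≫ ψ = 0 :=
      (shiftFunctor _ (-m)).map_injective (h1.trans (Functor.map_zero _ _ _).symm)
    rwa [← cancel_epi (rhoStructureIso j).hom, comp_zero]
  let t : P ⟶ (DCoh.Rpush j).obj ((rho j).obj K) := (adj j).homEquiv _ _ ψ'
  obtain ⟨n, hn⟩ := exists_pw_kill hL s hP hC (isZero_rho_cone_unit j b c hT) (t ≫ b)
  let τ : 𝟭 (DCoh.D X) ⟶ twD L n := (twD0 L).inv ≫ mapDNT (pw (InvX.one s) n)
  have hn' : (t ≫ τ.app _) ≫ (twD L n).map b = 0 := by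
    refine (Category.assoc _ _ _).trans ((congrArg (t ≫ ·) (τ.naturality b).symm).trans ?_)
    exact (Category.assoc _ _ _).symm.trans hn
  obtain ⟨x, hx⟩ := Triangle.coyoneda_exact₂ _ ((twD L n).map_distinguished _ hT) (t ≫ τ.app _) hn'
  have hx0 : t ≫ τ.app _ = 0 := by
    rw [hx, show x = 0 from h n (-m) x, zero_comp]
  have hr : (rho j).map t ≫ (rho j).map (τ.app _) = 0 := by
    rw [← Functor.map_comp, hx0, Functor.map_zero]
  haveI : IsIso ((rho j).map (τ.app ((DCoh.Rpush j).obj ((rho j).obj K)))) := by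
    haveI := isIso_rho_mapDNT_pw hL s hR n
    rw [NatTrans.comp_app, Functor.map_comp]
    infer_instance
  have ht : (rho j).map t = 0 := by
    rw [← cancel_mono ((rho j).map (τ.app ((DCoh.Rpush j).obj ((rho j).obj K)))), zero_comp]
    exact hr
  have := ((adj j).homEquiv P ((rho j).obj K)).symm_apply_apply ψ'
  rw [Adjunction.homEquiv_counit] at this
  rw [← this]
  exact (congrArg (· ≫ _) ht).trans zero_comp

/-- Twists without hypercohomology force an object with quasi-coherent cohomology to vanish. -/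
theorem isZero_of_twists [CompactSpace X] [QuasiSeparatedSpace X] (hL : PicF.IsInvertible L) {κ : Type*}
    (s : κ → (Coh.structureModule X ⟶ L)) (hcov : ∀ x : X, ∃ i, x ∈ CohB1.genLocus L (s i))
    (haff : ∀ i, IsAffineOpen (CohB1.genLocus L (s i))) {K : DCoh.D X} (hK : DCoh.IsQCohD K)
    (h : ∀ (n : ℕ) (m : ℤ) (φ : (DCoh.inD X (Coh.structureModule X))⟦m⟧ ⟶ (twD L n).obj K), φ = 0) :
    IsZero K := by
  have hH : ∀ q : ℤ, IsZero (DCoh.HD K q) := fun q => isZero_of_isZero_restrict _ fun x => by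
    obtain ⟨i, hi⟩ := hcov x
    exact ⟨_, hi, (Functor.map_isZero _ (isZero_rho_of_twists hL (s i) (haff i) hK h)).of_iso
      (restrictHDIso (CohB1.genLocus L (s i)).ι K q).symm⟩
  haveI : IsIso (0 : K ⟶ (0 : DCoh.D X)) := (DerivedCategory.isIso_iff _ _).2 fun q =>
    ⟨0, (hH q).eq_of_src _ _, (Functor.map_isZero _ (isZero_zero _)).eq_of_src _ _⟩
  exact (isZero_zero _).of_iso (asIso (0 : K ⟶ (0 : DCoh.D X)))

end Groth.Agent.ProjPush
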