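import Mathlib.Algebra.Homology.DerivedCategory.SingleTriangle
import Mathlib.Algebra.Homology.DerivedCategory.ExactFunctor
import Mathlib.CategoryTheory.Triangulated.Subcategory

/-!
# Iterated cones of commuting endomorphisms of a `ℤ`-indexed family

From objects `T a` with commuting maps `x j : T a ⟶ T (a + 1)` we build, by iterating mapping cones,
the Koszul complexes of the family.
-/

universe w w' v v' u u'

open CategoryTheory CategoryTheory.Category CategoryTheory.Limits Pretriangulated

namespace Groth.Agent.ProjPush.Kos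

variable {C : Type u} [Category.{v} C] [Abelian C] {κ : Type*} (T : ℤ → C)
  (x : κ → ∀ a : ℤ, T a ⟶ T (a + 1))

/-- A stage of the construction. -/
structure Lev where
  /-- the complexes -/
  E : ℤ → CochainComplex C ℤ
  /-- the maps -/
  m : κ → ∀ a : ℤ, E a ⟶ E (a + 1)
  comm : ∀ i j a, m i a ≫ m j (a + 1) = m j a ≫ m i (a + 1)

variable (comm : ∀ i j a, x i a ≫ x j (a + 1) = x j a ≫ x i (a + 1))

/-- The iterated cones along a list of indices. -/
noncomputable def kz : List κ → Lev (C := C) (κ := κ)
  | [] =>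
    { E := fun a => (CochainComplex.singleFunctor C 0).obj (T a)
      m := fun j a => (CochainComplex.singleFunctor C 0).map (x j a)
      comm := fun i j a => by rw [← Functor.map_comp, ← Functor.map_comp, comm] }
  | i :: l =>
    { E := fun a => CochainComplex.mappingCone ((kz l).m i a)
      m := fun j a => CochainComplex.mappingCone.map _ _ ((kz l).m j a) ((kz l).m j (a + 1))
        ((kz l).comm i j a)
      comm := fun j j' a => by
        rw [← CochainComplex.mappingCone.map_comp, ← CochainComplex.mappingCone.map_comp]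
        congr 1
        · exact (kz l).comm j j' a
        · exact (kz l).comm j j' (a + 1) }

lemma E_nil (a : ℤ) : (kz T x comm []).E a = (CochainComplex.singleFunctor C 0).obj (T a) := rfl

lemma E_cons (i : κ) (l : List κ) (a : ℤ) :
    (kz T x comm (i :: l)).E a = CochainComplex.mappingCone ((kz T x comm l).m i a) := rfl

/-- Sums of copies of one object add up. -/
noncomputable def biprodConstIso [HasFiniteCoproducts C] (M : C) (n m : ℕ) :
    (∐ fun _ : Fin n => M) ⊞ (∐ fun _ : Fin m => M) ≅ ∐ fun _ : Fin (n + m) => M where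
  hom := biprod.desc
    (Sigma.desc fun i => Sigma.ι (fun _ : Fin (n + m) => M) (Fin.castAdd m i))
    (Sigma.desc fun j => Sigma.ι (fun _ : Fin (n + m) => M) (Fin.natAdd n j))
  inv := Sigma.desc (Fin.addCases
    (fun i => Sigma.ι (fun _ : Fin n => M) i ≫ biprod.inl)
    (fun j => Sigma.ι (fun _ : Fin m => M) j ≫ biprod.inr))
  hom_inv_id := by
    apply biprod.hom_ext' <;> apply Sigma.hom_ext <;> intro i <;> simp
  inv_hom_id := by
    apply Sigma.hom_ext
    intro i
    induction i using Fin.addCases <;> simp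

lemma sigma_eq [HasFiniteCoproducts C] {n n' : ℕ} {M M' : C} (h : n = n') (h' : M = M') :
    (∐ fun _ : Fin n => M) = ∐ fun _ : Fin n' => M' := by subst h h'; rfl

/-- The terms. -/
theorem terms [HasFiniteCoproducts C] : ∀ (l : List κ) (a : ℤ),
    (∀ p : ℤ, 0 < p → IsZero (((kz T x comm l).E a).X p)) ∧
    ∀ m : ℕ, Nonempty (((kz T x comm l).E a).X (-(m : ℤ)) ≅
      ∐ fun _ : Fin (Nat.choose l.length m) => T (a + l.length - m))
  | [], a => by
    refine ⟨fun p hp => HomologicalComplex.isZero_single_obj_X (ComplexShape.up ℤ) 0 _ p (by omega), fun m => ?_⟩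
    cases m with
    | zero =>
      refine ⟨HomologicalComplex.singleObjXSelf (ComplexShape.up ℤ) (0 : ℤ) (T a) ≪≫
        eqToIso (congrArg T (show a = a + (([] : List κ).length : ℤ) - ((0 : ℕ) : ℤ) by simp)) ≪≫ ?_⟩
      exact
        { hom := Sigma.ι (fun _ : Fin (Nat.choose 0 0) => T (a + ([] : List κ).length - (0 : ℕ))) ⟨0, Nat.one_pos⟩
          inv := Sigma.desc fun _ => 𝟙 _
          hom_inv_id := Sigma.ι_desc _ _
          inv_hom_id := Sigma.hom_ext _ _ fun i => by
            rw [Sigma.ι_desc_assoc, id_comp, comp_id]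
            exact congrArg (Sigma.ι _) (Fin.ext (by have h : i.1 < 1 := i.2; show 0 = i.1; omega)) }
    | succ m =>
      refine ⟨(HomologicalComplex.isZero_single_obj_X (ComplexShape.up ℤ) 0 _ _ (by omega)).iso ?_⟩
      refine IsInitial.isZero (IsInitial.ofUniqueHom
        (fun Y => Sigma.desc fun i => (absurd i.2 (by simp)) ) fun Y f => Sigma.hom_ext _ _ fun i => absurd i.2 (by simp))
  | i :: l, a => by
    obtain ⟨hF, hF'⟩ := terms l a
    obtain ⟨hG, hG'⟩ := terms l (a + 1)
    rw [E_cons]
    let φ := (kz T x comm l).m i a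
    refine ⟨fun p hp => ?_, fun m => ?_⟩
    · refine IsZero.of_iso ((biprod_isZero_iff _ _).2 ⟨hF (p + 1) (by omega), hG p hp⟩)
        (HomologicalComplex.homotopyCofiber.XIsoBiprod φ p (p + 1) rfl)
    cases m with
    | zero =>
      obtain ⟨e⟩ := hG' 0
      refine ⟨HomologicalComplex.homotopyCofiber.XIsoBiprod φ (-((0 : ℕ) : ℤ)) 1 (by simp) ≪≫ ?_⟩
      have h1 : IsZero (((kz T x comm l).E a).X 1) := hF 1 one_pos
      refine (isoZeroBiprod h1).symm ≪≫ e ≪≫ eqToIso ?_
      exact sigma_eq (by simp) (congrArg T (by simp only [List.length_cons]; push_cast; omega))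
    | succ m =>
      obtain ⟨e₁⟩ := hF' m
      obtain ⟨e₂⟩ := hG' (m + 1)
      refine ⟨HomologicalComplex.homotopyCofiber.XIsoBiprod φ (-((m + 1 : ℕ) : ℤ)) (-(m : ℤ)) (by simp) ≪≫
        biprod.mapIso e₁ (e₂ ≪≫ eqToIso ?_) ≪≫ biprodConstIso (T (a + l.length - m)) (Nat.choose l.length m) (Nat.choose l.length (m + 1)) ≪≫ eqToIso ?_⟩
      · exact sigma_eq rfl (congrArg T (show a + 1 + (l.length : ℤ) - ((m + 1 : ℕ) : ℤ) = a + l.length - m by omega))
      · exact sigma_eq (by simp [Nat.choose_succ_succ]) (congrArg T (by simp only [List.length_cons]; push_cast; omega))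

variable [HasDerivedCategory.{w} C]

/-- The defining triangle. -/
lemma exists_triangle (i : κ) (l : List κ) (a : ℤ) :
    ∃ (b : DerivedCategory.Q.obj ((kz T x comm l).E (a + 1)) ⟶ DerivedCategory.Q.obj ((kz T x comm (i :: l)).E a))
      (c : DerivedCategory.Q.obj ((kz T x comm (i :: l)).E a) ⟶
        (DerivedCategory.Q.obj ((kz T x comm l).E a))⟦(1 : ℤ)⟧),
      Triangle.mk (DerivedCategory.Q.map ((kz T x comm l).m i a)) b c ∈ distTriang _ :=
  ⟨_, _, DerivedCategory.mappingCone_triangle_distinguished ((kz T x comm l).m i a)⟩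

section Exact

variable {C' : Type u'} [Category.{v'} C'] [Abelian C'] [HasDerivedCategory.{w'} C']
  (F : C ⥤ C') [F.Additive] [PreservesFiniteLimits F] [PreservesFiniteColimits F]

/-- Where `x j` is invertible it acts invertibly on every stage. -/
lemma isIso_m {j : κ} (hj : ∀ a, IsIso (F.map (x j a))) : ∀ (l : List κ) (a : ℤ),
    IsIso (F.mapDerivedCategory.map (DerivedCategory.Q.map ((kz T x comm l).m j a)))
  | [], a => by
    haveI := hj a
    let e := NatIso.isIso_map_iff F.mapDerivedCategoryFactors ((kz T x comm []).m j a)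
    refine e.2 ?_
    have e2 := NatIso.isIso_map_iff (HomologicalComplex.singleMapHomologicalComplex F (ComplexShape.up ℤ) 0) (x j a)
    haveI : IsIso ((F.mapHomologicalComplex (ComplexShape.up ℤ)).map ((kz T x comm []).m j a)) :=
      e2.2 (Functor.map_isIso (HomologicalComplex.single C' (ComplexShape.up ℤ) 0) (F.map (x j a)))
    exact Functor.map_isIso DerivedCategory.Q ((F.mapHomologicalComplex (ComplexShape.up ℤ)).map ((kz T x comm []).m j a))
  | i :: l, a => by
    let G := F.mapDerivedCategory
    let φ := DerivedCategory.Q.mapTriangle.map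
      (CochainComplex.mappingCone.triangleMap ((kz T x comm l).m i a) ((kz T x comm l).m i (a + 1))
        ((kz T x comm l).m j a) ((kz T x comm l).m j (a + 1)) ((kz T x comm l).comm i j a))
    exact isIso₃_of_isIso₁₂ (G.mapTriangle.map φ)
      (G.map_distinguished _ (DerivedCategory.mappingCone_triangle_distinguished _))
      (G.map_distinguished _ (DerivedCategory.mappingCone_triangle_distinguished _))
      (isIso_m hj l a) (isIso_m hj l (a + 1))

/-- A stage containing an index invertible after `F` becomes zero. -/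
lemma isZero_of_mem {j : κ} (hj : ∀ a, IsIso (F.map (x j a))) : ∀ (l : List κ), j ∈ l → ∀ a : ℤ,
    IsZero (F.mapDerivedCategory.obj (DerivedCategory.Q.obj ((kz T x comm l).E a)))
  | i :: l, h, a => by
    obtain ⟨b, c, hT⟩ := exists_triangle T x comm i l a
    have hT' := F.mapDerivedCategory.map_distinguished _ hT
    refine (Triangle.isZero₃_iff_isIso₁ _ hT').2 ?_
    rcases List.mem_cons.1 h with rfl | h
    · exact isIso_m T x comm F hj l a
    · exact ⟨0, (isZero_of_mem hj l h a).eq_of_src _ _, (isZero_of_mem hj l h (a + 1)).eq_of_src _ _⟩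

end Exact

variable (Ψ : ObjectProperty (DerivedCategory C)) [Ψ.IsTriangulated] [Ψ.IsClosedUnderIsomorphisms]

/-- Modulo the intermediate twists a stage is its lowest twist. -/
theorem mem_iff_low : ∀ (l : List κ) (a : ℤ),
    (∀ b, a < b → b ≤ a + l.length → Ψ ((DerivedCategory.singleFunctor C 0).obj (T b))) →
      (Ψ (DerivedCategory.Q.obj ((kz T x comm l).E a)) ↔ Ψ ((DerivedCategory.singleFunctor C 0).obj (T a)))
  | [], a, _ => Ψ.prop_iff_of_iso ((DerivedCategory.singleFunctorIsoCompQ C 0).app (T a)).symm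
  | i :: l, a, h => by
    have hl : ((i :: l).length : ℤ) = (l.length : ℤ) + 1 := by simp
    have hG : Ψ (DerivedCategory.Q.obj ((kz T x comm l).E (a + 1))) :=
      (mem_iff_low l (a + 1) fun b hb hb' => h b (by omega) (by omega)).2 (h (a + 1) (by omega) (by omega))
    obtain ⟨b, c, hT⟩ := exists_triangle T x comm i l a
    rw [← mem_iff_low l a fun b hb hb' => h b hb (by omega)]
    exact ⟨fun h₃ => Ψ.ext_of_isTriangulatedClosed₁ _ hT hG h₃, fun h₁ => Ψ.ext_of_isTriangulatedClosed₃ _ hT h₁ hG⟩

/-- Modulo the intermediate twists a stage is its highest twist. -/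
theorem mem_iff_high : ∀ (l : List κ) (a : ℤ),
    (∀ b, a ≤ b → b < a + l.length → Ψ ((DerivedCategory.singleFunctor C 0).obj (T b))) →
      (Ψ (DerivedCategory.Q.obj ((kz T x comm l).E a)) ↔
        Ψ ((DerivedCategory.singleFunctor C 0).obj (T (a + l.length))))
  | [], a, _ => by
    refine Ψ.prop_iff_of_iso (((DerivedCategory.singleFunctorIsoCompQ C 0).app (T a)).symm ≪≫ eqToIso ?_)
    simp
  | i :: l, a, h => by
    have hl : ((i :: l).length : ℤ) = (l.length : ℤ) + 1 := by simp
    have hF : Ψ (DerivedCategory.Q.obj ((kz T x comm l).E a)) :=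
      (mem_iff_high l a fun b hb hb' => h b hb (by omega)).2 (h (a + l.length) (by omega) (by omega))
    obtain ⟨b, c, hT⟩ := exists_triangle T x comm i l a
    rw [show a + ((i :: l).length : ℤ) = a + 1 + l.length by omega,
      ← mem_iff_high l (a + 1) fun b hb hb' => h b (by omega) (by omega)]
    exact ⟨fun h₃ => Ψ.ext_of_isTriangulatedClosed₂ _ hT hF h₃, fun h₂ => Ψ.ext_of_isTriangulatedClosed₃ _ hT hF h₂⟩

end Groth.Agent.ProjPush.Kos
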