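import Groth.Agent.KFlatLib.PsiC

/-!
# Natural transformations of exact functors on derived categories
-/

universe w w' v v' u u'

open CategoryTheory CategoryTheory.Category CategoryTheory.Limits

namespace Groth.Agent.ProjPush

open Groth.Agent.KFlatLib

variable {C : Type u} [Category.{v} C] [Abelian C] [HasDerivedCategory.{w} C]
  {C' : Type u'} [Category.{v'} C'] [Abelian C'] [HasDerivedCategory.{w'} C']
  {F G H : C ⥤ C'} [F.Additive] [PreservesFiniteLimits F] [PreservesFiniteColimits F]
  [G.Additive] [PreservesFiniteLimits G] [PreservesFiniteColimits G]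
  [H.Additive] [PreservesFiniteLimits H] [PreservesFiniteColimits H]

/-- A natural transformation of exact functors, on derived categories. -/
noncomputable def mapDNT (α : F ⟶ G) : F.mapDerivedCategory ⟶ G.mapDerivedCategory :=
  Localization.liftNatTrans DerivedCategory.Q (HomologicalComplex.quasiIso C (ComplexShape.up ℤ))
    (F.mapHomologicalComplex _ ⋙ DerivedCategory.Q) (G.mapHomologicalComplex _ ⋙ DerivedCategory.Q)
    _ _ (Functor.whiskerRight (NatTrans.mapHomologicalComplex α (ComplexShape.up ℤ)) DerivedCategory.Q)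

lemma mapDNT_app_Q (α : F ⟶ G) (K : CochainComplex C ℤ) :
    (mapDNT α).app (DerivedCategory.Q.obj K) = F.mapDerivedCategoryFactors.hom.app K ≫
      DerivedCategory.Q.map ((NatTrans.mapHomologicalComplex α (ComplexShape.up ℤ)).app K) ≫
        G.mapDerivedCategoryFactors.inv.app K := by
  simp [mapDNT, Localization.Lifting.iso]

lemma mapDNT_comp (α : F ⟶ G) (β : G ⟶ H) : mapDNT (α ≫ β) = mapDNT α ≫ mapDNT β := by
  refine Localization.natTrans_ext DerivedCategory.Q
    (HomologicalComplex.quasiIso C (ComplexShape.up ℤ)) fun K => ?_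
  rw [NatTrans.comp_app, mapDNT_app_Q, mapDNT_app_Q, mapDNT_app_Q, NatTrans.mapHomologicalComplex_comp,
    NatTrans.comp_app, Functor.map_comp]
  simp

lemma mapDNT_id : mapDNT (𝟙 F) = 𝟙 _ := by
  refine Localization.natTrans_ext DerivedCategory.Q
    (HomologicalComplex.quasiIso C (ComplexShape.up ℤ)) fun K => ?_
  rw [mapDNT_app_Q, NatTrans.mapHomologicalComplex_id]
  simp

variable (F) in
/-- The cohomology of the image of a complex under an exact functor, through a representative. -/
noncomputable def hIso (q : ℤ) (K : DerivedCategory C) :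
    (DerivedCategory.homologyFunctor C' q).obj (F.mapDerivedCategory.obj K) ≅
      F.obj ((DerivedCategory.homologyFunctor C q).obj K) :=
  (DerivedCategory.homologyFunctor C' q).mapIso
      (F.mapDerivedCategory.mapIso (DerivedCategory.Q.objObjPreimageIso K).symm ≪≫
        F.mapDerivedCategoryFactors.app _) ≪≫
    (DerivedCategory.homologyFunctorFactors C' q).app _ ≪≫
    ((DerivedCategory.Q.objPreimage K).sc q).mapHomologyIso F ≪≫
    F.mapIso (((DerivedCategory.homologyFunctorFactors C q).app _).symm ≪≫
      (DerivedCategory.homologyFunctor C q).mapIso (DerivedCategory.Q.objObjPreimageIso K))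

/-- On cohomology the lifted transformation is the original one. -/
lemma homology_mapDNT (α : F ⟶ G) (q : ℤ) (K : DerivedCategory C) :
    (DerivedCategory.homologyFunctor C' q).map ((mapDNT α).app K) ≫ (hIso G q K).hom =
      (hIso F q K).hom ≫ α.app ((DerivedCategory.homologyFunctor C q).obj K) := by
  let L := DerivedCategory.Q.objPreimage K
  let e := DerivedCategory.Q.objObjPreimageIso K
  let A := DerivedCategory.homologyFunctorFactors C' q
  have h1 : (mapDNT α).app K ≫ G.mapDerivedCategory.map e.inv ≫ G.mapDerivedCategoryFactors.hom.app L =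
      F.mapDerivedCategory.map e.inv ≫ F.mapDerivedCategoryFactors.hom.app L ≫
        DerivedCategory.Q.map ((NatTrans.mapHomologicalComplex α (ComplexShape.up ℤ)).app L) := by
    rw [← assoc, ← (mapDNT α).naturality, assoc, mapDNT_app_Q, assoc, assoc,
      Iso.inv_hom_id_app]
    exact congrArg (_ ≫ ·) (congrArg (_ ≫ ·) (comp_id _))
  have h2 : HomologicalComplex.homologyMap ((NatTrans.mapHomologicalComplex α (ComplexShape.up ℤ)).app L) q ≫
      ((L.sc q).mapHomologyIso G).hom =
        ((L.sc q).mapHomologyIso F).hom ≫ α.app (L.sc q).homology := by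
    have hs : (HomologicalComplex.shortComplexFunctor C' (ComplexShape.up ℤ) q).map
        ((NatTrans.mapHomologicalComplex α (ComplexShape.up ℤ)).app L) = (L.sc q).mapNatTrans α := by
      ext <;> rfl
    change ShortComplex.homologyMap _ ≫ _ = _
    rw [hs]
    exact ((congrArg (· ≫ ((L.sc q).mapHomologyIso G).hom) (ShortComplex.homologyMap_mapNatTrans _ α)).trans
      (by rw [assoc, assoc, Iso.inv_hom_id, comp_id]))
  have h3 := A.hom.naturality ((NatTrans.mapHomologicalComplex α (ComplexShape.up ℤ)).app L)
  simp only [hIso, Iso.trans_hom, Functor.mapIso_hom, Iso.app_hom, assoc, Iso.symm_hom]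
  rw [← assoc, ← Functor.map_comp, h1]
  simp only [Functor.map_comp, assoc]
  refine congrArg (_ ≫ ·) (congrArg (_ ≫ ·) ?_)
  refine (assoc _ _ _).symm.trans ((congrArg (· ≫ _) h3).trans ((assoc _ _ _).trans ?_))
  refine congrArg (_ ≫ ·) ?_
  refine (assoc _ _ _).symm.trans ((congrArg (· ≫ _) h2).trans ((assoc _ _ _).trans ?_))
  try simp only [Functor.mapIso_hom]
  erw [← α.naturality_assoc, ← α.naturality]
  rfl

end Groth.Agent.ProjPush
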