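import Groth.Agent.ProjPush.TwistKos

/-!
# One-sided closure of a class containing consecutive twists
-/

set_option linter.style.haveILetI false
set_option backward.isDefEq.respectTransparency false
set_option backward.isDefEq.respectTransparency.types false

universe w v u

open CategoryTheory CategoryTheory.Category CategoryTheory.Limits Pretriangulated AlgebraicGeometry

namespace Groth.Agent.ProjPush

section Gen

variable {C : Type u} [Category.{v} C] [Abelian C] [HasDerivedCategory.{w} C] {κ : Type*} (T : ℤ → C)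
  (x : κ → ∀ a : ℤ, T a ⟶ T (a + 1)) (comm : ∀ i j a, x i a ≫ x j (a + 1) = x j a ≫ x i (a + 1))
  (Φ : DerivedCategory C → Prop) (hiso : ∀ {A B}, (A ≅ B) → Φ A → Φ B)
  (hext : ∀ t ∈ distTriang (DerivedCategory C), Φ t.obj₁ → Φ t.obj₃ → Φ t.obj₂)
  (hneg : ∀ A, Φ A → Φ (A⟦(-1 : ℤ)⟧))

/-- A stage shifted down by its length, from the triangle defining it. -/
lemma exists_shifted_triangle (i : κ) (l : List κ) (a : ℤ) :
    ∃ t ∈ distTriang (DerivedCategory C),
      Nonempty (t.obj₁ ≅ ((DerivedCategory.Q.obj ((Kos.kz T x comm l).E (a + 1)))⟦(-(l.length : ℤ))⟧)⟦(-1 : ℤ)⟧) ∧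
      Nonempty (t.obj₂ ≅ (DerivedCategory.Q.obj ((Kos.kz T x comm (i :: l)).E a))⟦(-((i :: l).length : ℤ))⟧) ∧
      Nonempty (t.obj₃ ≅ (DerivedCategory.Q.obj ((Kos.kz T x comm l).E a))⟦(-(l.length : ℤ))⟧) := by
  obtain ⟨b, c, hT⟩ := Kos.exists_triangle T x comm i l a
  have hs := Triangle.shift_distinguished _ (rot_of_distTriang _ hT) (-((i :: l).length : ℤ))
  refine ⟨_, hs, ⟨((shiftFunctorAdd' _ (-(l.length : ℤ)) (-1) (-((i :: l).length : ℤ))
      (by simp only [List.length_cons]; push_cast; omega)).app _)⟩, ⟨Iso.refl _⟩, ⟨?_⟩⟩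
  exact ((shiftFunctorAdd' (DerivedCategory C) (1 : ℤ) (-((i :: l).length : ℤ)) (-(l.length : ℤ))
      (by simp only [List.length_cons]; push_cast; omega)).app _).symm

include hiso hext hneg

/-- A stage, shifted down by its length, lies in the class if its twists do. -/
lemma prop_kz : ∀ (l : List κ) (a : ℤ),
    (∀ b, a ≤ b → b ≤ a + l.length → Φ ((DerivedCategory.singleFunctor C 0).obj (T b))) →
      Φ ((DerivedCategory.Q.obj ((Kos.kz T x comm l).E a))⟦(-(l.length : ℤ))⟧)
  | [], a, h => hiso ((DerivedCategory.singleFunctorIsoCompQ C 0).app (T a) ≪≫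
      ((shiftFunctorZero' (DerivedCategory C) (-(([] : List κ).length : ℤ)) (by simp)).app _).symm)
      (h a le_rfl (by simp))
  | i :: l, a, h => by
    have hl : ((i :: l).length : ℤ) = (l.length : ℤ) + 1 := by simp
    obtain ⟨t, ht, ⟨e₁⟩, ⟨e₂⟩, ⟨e₃⟩⟩ := exists_shifted_triangle T x comm i l a
    exact hiso e₂ (hext t ht
      (hiso e₁.symm (hneg _ (prop_kz l (a + 1) fun b hb hb' => h b (by omega) (by omega))))
      (hiso e₃.symm (prop_kz l a fun b hb hb' => h b hb (by omega))))

/-- The lowest twist lies in the class if the others and the stage do. -/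
lemma prop_low : ∀ (l : List κ) (a : ℤ),
    (∀ b, a < b → b ≤ a + l.length → Φ ((DerivedCategory.singleFunctor C 0).obj (T b))) →
      Φ ((DerivedCategory.Q.obj ((Kos.kz T x comm l).E a))⟦(-(l.length : ℤ))⟧) →
        Φ ((DerivedCategory.singleFunctor C 0).obj (T a))
  | [], a, _, h => hiso ((shiftFunctorZero' (DerivedCategory C) (-(([] : List κ).length : ℤ)) (by simp)).app _ ≪≫
      ((DerivedCategory.singleFunctorIsoCompQ C 0).app (T a)).symm) h
  | i :: l, a, h, hk => by
    have hl : ((i :: l).length : ℤ) = (l.length : ℤ) + 1 := by simp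
    refine prop_low l a (fun b hb hb' => h b hb (by omega)) ?_
    obtain ⟨t, ht, ⟨e₁⟩, ⟨e₂⟩, ⟨e₃⟩⟩ := exists_shifted_triangle T x comm i l a
    refine hiso e₃ (hext _ (rot_of_distTriang _ ht) (hiso e₂.symm hk) (hiso ?_
      (prop_kz T x comm Φ hiso hext hneg l (a + 1) fun b hb hb' => h b (by omega) (by omega))))
    exact ((shiftFunctorCompIsoId (DerivedCategory C) (-1 : ℤ) 1 (by simp)).app _).symm ≪≫
      (shiftFunctor _ (1 : ℤ)).mapIso e₁.symm

end Gen

attribute [local instance] HasDerivedCategory.standard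

variable {n : ℕ} {A : Type u} [CommRing A] {Z : Scheme.{u}} (g : Z ⟶ CohB1.ProjSpace n A)

/-- A class closed under extensions and negative shifts, containing the twists in a window, contains all
twists below it. -/
theorem mem_below_of_window (Φ : DCoh.D Z → Prop) (hiso : ∀ {A B}, (A ≅ B) → Φ A → Φ B)
    (hext : ∀ t ∈ distTriang (DCoh.D Z), Φ t.obj₁ → Φ t.obj₃ → Φ t.obj₂)
    (hneg : ∀ A, Φ A → Φ (A⟦(-1 : ℤ)⟧)) (hzero : ∀ A, IsZero A → Φ A)
    (a₀ : ℤ) (h : ∀ a, a₀ ≤ a → a ≤ a₀ + n → Φ (DCoh.inD Z (Tw g a))) :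
    ∀ a, a ≤ a₀ + n → Φ (DCoh.inD Z (Tw g a)) := by
  suffices key : ∀ (d : ℕ) (a : ℤ), a ≤ a₀ + n → a₀ - d ≤ a → Φ (DCoh.inD Z (Tw g a)) from
    fun a ha => key (a₀ - a).toNat a ha (by omega)
  intro d
  induction d with
  | zero => exact fun a ha ha' => h a (by simpa using ha') ha
  | succ d ih =>
    intro a ha ha'
    push_cast at ha'
    by_cases h1 : a₀ - d ≤ a
    · exact ih a ha h1
    have hlen : ((List.finRange (n + 1)).length : ℤ) = n + 1 := by simp
    refine prop_low (Tw g) (cmap g) (cmap_comm g) Φ hiso hext hneg (List.finRange (n + 1)) a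
      (fun b hb hb' => ih b (by omega) (by omega)) (hzero _ ?_)
    exact Functor.map_isZero _ (isZero_Q_kosCx g a)

end Groth.Agent.ProjPush
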