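import Groth.Agent.ProjPush.Transfer
import Groth.Agent.ProjPush.OneSided
import Groth.Agent.ProjPush.DetectDeg
import Groth.Agent.ProjPush.PushPC
import Groth.Agent.KFlatLib.Perfect.Top
import Groth.Agent.KFlatLib.Scheme.RpushTriangle

/-!
# Pseudo-coherence on a projective space from direct images of twists
-/

set_option linter.style.haveILetI false
set_option backward.isDefEq.respectTransparency false
set_option backward.isDefEq.respectTransparency.types false
set_option synthInstance.maxHeartbeats 200000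

universe u

open CategoryTheory CategoryTheory.Limits AlgebraicGeometry Pretriangulated TopologicalSpace Opposite ZeroObject

attribute [local instance] HasDerivedCategory.standard

noncomputable section

namespace Groth.Agent.ProjPush

open Groth.Agent.KFlatLib Groth.Agent.DQGen AmpleVan

section Unit

variable {Z Y : Scheme.{u}} (π : Z ⟶ Y) [IsAffine Y] [QuasiCompact π] [QuasiSeparated π] [DCoh.HasRpush π]

lemma isZero_hd_rpush_of_hom {L : DCoh.D Z} (hL : DCoh.IsQCohD L)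
    (h : ∀ φ : DCoh.inD Z (Coh.structureModule Z) ⟶ L, φ = 0) :
    IsZero (DCoh.HD ((DCoh.Rpush π).obj L) 0) := by
  haveI := hasInjectiveResolutions_modules (X := Z)
  haveI := hasLpull π
  obtain ⟨a⟩ := nonempty_lpull_rpush_adj π
  obtain ⟨e⟩ := nonempty_lpull_unitObj π
  obtain ⟨eO⟩ := nonempty_secObj_top Y
  refine isZero_hd_of_affine (isQCohD_rpush π hL) 0 fun φ => ?_
  let φ' : unitObj Y ⟶ (DCoh.Rpush π).obj L :=
    (DerivedCategory.singleFunctor Y.Modules 0).map eO.inv ≫ φ ≫ (shiftFunctorZero (DCoh.D Y) ℤ).hom.app _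
  have hφ' : φ' = 0 := by
    have h0 : ∀ χ : (DCoh.Lpull π).obj (unitObj Y) ⟶ L, χ = 0 := fun χ => by
      rw [← cancel_epi e.inv, comp_zero]
      exact h _
    exact (a.homEquiv _ _).symm.injective ((h0 _).trans (h0 _).symm)
  rw [← cancel_epi ((DerivedCategory.singleFunctor Y.Modules 0).map eO.inv),
    ← cancel_mono ((shiftFunctorZero (DCoh.D Y) ℤ).hom.app ((DCoh.Rpush π).obj L)), comp_zero, zero_comp,
    Category.assoc]
  exact hφ'

end Unit

variable {n : ℕ} {A : Type u} [CommRing A] {Z : Scheme.{u}} (g : Z ⟶ CohB1.ProjSpace n A)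
  {Y : Scheme.{u}} (π : Z ⟶ Y) [IsAffine Y] [QuasiCompact π] [QuasiSeparated π] [DCoh.HasRpush π]

lemma isZero_hd_rpush_of_twist_hom (d i : ℤ) {K : DCoh.D Z} (hK : DCoh.IsQCohD K)
    (h : ∀ φ : (DCoh.inD Z (Tw g (-d)))⟦-i⟧ ⟶ K, φ = 0) :
    IsZero (DCoh.HD ((DCoh.Rpush π).obj ((W g d).obj K)) i) := by
  obtain ⟨u⟩ := nonempty_WS_unit g d i
  obtain ⟨e⟩ := nonempty_hd_rpush_WS g π d i K
  refine (isZero_hd_rpush_of_hom π (L := (WS g d i).obj K) (isQCohD_shift (isQCohD_W g d hK) i) fun φ => ?_).of_iso e.symm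
  obtain ⟨χ, hχ⟩ := (WS g d i).map_surjective (u.hom ≫ φ)
  rw [h χ, Functor.map_zero] at hχ
  rw [← cancel_epi u.hom, comp_zero]
  exact hχ.symm

/-- The higher direct images of the twists in the window vanish. -/
def VanTw : Prop :=
  ∀ (e : ℤ) (i : ℤ), -(n : ℤ) ≤ e → 0 < i → IsZero (DCoh.HD ((DCoh.Rpush π).obj (DCoh.inD Z (Tw g e))) i)

/-- Qualitative hypothesis: all window twists have pseudo-coherent direct image. -/
def Good (K : DCoh.D Z) : Prop :=
  DCoh.IsQCohD K ∧ ∀ d : Fin (n + 1), ∀ m, LocPC m ((DCoh.Rpush π).obj ((W g d.1).obj K))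

/-- Quantitative hypothesis: no cohomology above `b`. -/
def Bd (b : ℤ) (K : DCoh.D Z) : Prop :=
  ∀ d : Fin (n + 1), ∀ i, b < i → IsZero (DCoh.HD ((DCoh.Rpush π).obj ((W g d.1).obj K)) i)

lemma nonempty_rpush_W_obj (d d' j : ℤ) :
    Nonempty ((DCoh.Rpush π).obj ((W g d).obj ((DCoh.inD Z (Tw g (-d')))⟦j⟧)) ≅
      ((DCoh.Rpush π).obj (DCoh.inD Z (Tw g (-d' + d))))⟦j⟧) := by
  obtain ⟨e⟩ := nonempty_W_twist g d (-d')
  obtain ⟨e'⟩ := nonempty_rpush_shift π (DCoh.inD Z (Tw g (-d' + d))) j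
  exact ⟨(DCoh.Rpush π).mapIso (((W g d).commShiftIso j).app _ ≪≫ (shiftFunctor _ j).mapIso e) ≪≫ e'⟩

/-- A degree in which all the maps out of the window twists vanish. -/
theorem isZero_hd_of_bd [IsAffineHom g] [QuasiSeparatedSpace Z] {K : DCoh.D Z} (hK : DCoh.IsQCohD K)
    {b : ℤ} (hb : Bd g π b K) (i : ℤ) (hi : b < i) : IsZero (DCoh.HD K i) := by
  let Φ : DCoh.D Z → Prop := fun E => ∀ i, b < i → ∀ φ : E⟦-i⟧ ⟶ K, φ = 0
  have hiso : ∀ {E E' : DCoh.D Z}, (E ≅ E') → Φ E → Φ E' := fun e h i hi φ => by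
    rw [← cancel_epi (e.hom⟦-i⟧'), comp_zero]; exact h i hi _
  have hext : ∀ t ∈ distTriang (DCoh.D Z), Φ t.obj₁ → Φ t.obj₃ → Φ t.obj₂ := fun t ht h₁ h₃ i hi φ => by
    obtain ⟨y, hy⟩ := Triangle.yoneda_exact₂ _ (Triangle.shift_distinguished t ht (-i)) φ (h₁ i hi _)
    exact hy.trans ((congrArg (_ ≫ ·) (h₃ i hi y)).trans comp_zero)
  have hneg : ∀ E, Φ E → Φ (E⟦(-1 : ℤ)⟧) := fun E h i hi φ => by
    rw [← cancel_epi ((shiftFunctorAdd' (DCoh.D Z) (-1) (-i) (-(i + 1)) (by omega)).hom.app E), comp_zero]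
    exact h (i + 1) (by omega) _
  have hzero : ∀ E, IsZero E → Φ E := fun E h i _ φ => (Functor.map_isZero _ h).eq_of_src _ _
  have hall := mem_below_of_window g Φ hiso hext hneg hzero (-(n : ℤ)) fun a ha ha' i hi φ => by
    obtain ⟨d, rfl⟩ : ∃ d : ℕ, a = -(d : ℤ) := ⟨(-a).toNat, by omega⟩
    exact twist_hom_eq_zero g π d i hK (hb ⟨d, by omega⟩ i hi) φ
  exact isZero_hd_of_twists_neg g hK i fun d φ => hall (-(d : ℤ)) (by omega) i hi φ

variable (b : ℤ)

/-- A list of maps from twists killing which kills all maps from twists. -/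
def GenList (K : DCoh.D Z) (L : List (Σ d : Fin (n + 1), (DCoh.inD Z (Tw g (-(d.1 : ℤ))))⟦-b⟧ ⟶ K)) : Prop :=
  ∀ {K' : DCoh.D Z}, DCoh.IsQCohD K' → ∀ f : K ⟶ K', (∀ p ∈ L, p.2 ≫ f = 0) →
    ∀ (d : Fin (n + 1)) (χ : (DCoh.inD Z (Tw g (-(d.1 : ℤ))))⟦-b⟧ ⟶ K), χ ≫ f = 0

theorem locPC_of_genList (hvan : VanTw g π) (hpush : ∀ e m, LocPC m ((DCoh.Rpush π).obj (DCoh.inD Z (Tw g e))))
    (m : ℤ) (hrec : ∀ K, Good g π K → Bd g π (b - 1) K → LocPC m K) :
    ∀ (N : ℕ) (K : DCoh.D Z) (L : List (Σ d : Fin (n + 1), (DCoh.inD Z (Tw g (-(d.1 : ℤ))))⟦-b⟧ ⟶ K)),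
      L.length = N → Good g π K → Bd g π b K → GenList g b K L → LocPC m K := by
  intro N
  induction N with
  | zero =>
    intro K L hL hK hb hgen
    refine hrec K hK fun d i hi => ?_
    rcases eq_or_lt_of_le (show b ≤ i by omega) with rfl | h
    · refine isZero_hd_rpush_of_twist_hom g π _ _ hK.1 fun φ => ?_
      have := hgen hK.1 (𝟙 K) (fun p hp => by simp [List.length_eq_zero_iff.1 hL] at hp) d φ
      rwa [Category.comp_id] at this
    · exact hb d i h
  | succ N ih =>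
    intro K L hL hK hb hgen
    obtain ⟨⟨d₀, α⟩, L', rfl⟩ : ∃ p L', L = p :: L' := List.exists_cons_of_length_eq_add_one hL
    let P := (DCoh.inD Z (Tw g (-(d₀.1 : ℤ))))⟦-b⟧
    obtain ⟨K', f, c, hT⟩ := distinguished_cocone_triangle (α : P ⟶ K)
    have hqP : DCoh.IsQCohD P := isQCohD_shift (isQCohD_of_isPerfect
      (isPerfect_inD (H23.PullPush.isFinLocFree_of_isInvertible (isInvertible_Tw g _)))) _
    have hP : DCoh.IsPerfect P := (isPerfect_iff _).2 (((isPerfect_iff _).1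
      (isPerfect_inD (H23.PullPush.isFinLocFree_of_isInvertible (isInvertible_Tw g _)))).shift _)
    have hq' : DCoh.IsQCohD K' := isQCohD_obj₃ hT hqP hK.1
    have hpcP : ∀ (d : ℤ) (j : ℤ), LocPC j ((DCoh.Rpush π).obj ((W g d).obj P)) := fun d j => by
      obtain ⟨e⟩ := nonempty_rpush_W_obj g π d d₀.1 (-b)
      have := (hpush (-(d₀.1 : ℤ) + d) (j + -b)).shift (-b)
      rw [show j + -b - -b = j by omega] at this
      exact this.of_iso e.symm
    have hzP : ∀ (d : Fin (n + 1)) (i : ℤ), b < i →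
        IsZero (DCoh.HD ((DCoh.Rpush π).obj ((W g d.1).obj P)) i) := fun d i hi => by
      obtain ⟨e⟩ := nonempty_rpush_W_obj g π d.1 d₀.1 (-b)
      exact (hvan (-(d₀.1 : ℤ) + d.1) (i - b) (by have := d₀.2; omega) (by omega)).of_iso
        ((DerivedCategory.homologyFunctor Y.Modules i).mapIso e ≪≫
          ((DerivedCategory.homologyFunctor Y.Modules 0).shiftIso (-b) i (i - b) (by omega)).app _)
    have htri : ∀ d : Fin (n + 1), ∃ c', Triangle.mk ((DCoh.Rpush π).map ((W g d.1).map (α : P ⟶ K)))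
        ((DCoh.Rpush π).map ((W g d.1).map f)) c' ∈ distTriang (DCoh.D Y) := fun d =>
      exists_rpush_triangle π _ ((W g d.1).map_distinguished _ hT)
    have hK' : Good g π K' := ⟨hq', fun d j => by
      obtain ⟨c', hc'⟩ := htri d
      exact (locPC_two_of_three j _ hc').1 (hpcP _ _) (hK.2 d j)⟩
    have hb' : Bd g π b K' := fun d i hi => by
      obtain ⟨c', hc'⟩ := htri d
      exact (DerivedCategory.HomologySequence.exact₃ _ hc' i (i + 1) rfl).isZero_X₂
        ((hb d i hi).eq_of_src _ _) ((hzP d (i + 1) (by omega)).eq_of_tgt _ _)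
    have hgen' : GenList g b K' (L'.map fun p => ⟨p.1, p.2 ≫ f⟩) := fun {K''} hK'' h hh d χ => by
      have hlift : χ ≫ c = 0 := by
        refine twist_hom_eq_zero g π _ _ (isQCohD_shift hqP 1) ?_ _
        obtain ⟨e⟩ := nonempty_rpush_shift π ((W g d.1).obj P) 1
        exact (hzP d (b + 1) (by omega)).of_iso ((DerivedCategory.homologyFunctor Y.Modules b).mapIso
          ((DCoh.Rpush π).mapIso (((W g d.1).commShiftIso (1 : ℤ)).app P) ≪≫ e) ≪≫
          ((DerivedCategory.homologyFunctor Y.Modules 0).shiftIso 1 b (b + 1) (by omega)).app _)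
      obtain ⟨χ₀, hχ₀⟩ := Triangle.coyoneda_exact₃ _ hT χ hlift
      rw [hχ₀, Category.assoc]
      refine hgen hK'' (f ≫ h) (fun p hp => ?_) d χ₀
      rcases List.mem_cons.1 hp with rfl | hp
      · show α ≫ f ≫ h = 0
        rw [← Category.assoc]
        exact (congrArg (· ≫ h) (comp_distTriang_mor_zero₁₂ _ hT)).trans zero_comp
      · rw [← Category.assoc]
        exact hh ⟨p.1, p.2 ≫ f⟩ (List.mem_map.2 ⟨p, hp, rfl⟩)
    have hpc' := ih K' _ (by simpa using hL) hK' hb' hgen'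
    exact (locPC_two_of_three m _ hT).2.1 (((isPerfect_iff _).1 hP).locPC m) hpc'

/-- Pseudo-coherence from pseudo-coherence of the direct images of the twists in the window. -/
theorem locPC_of_good [IsAffineHom g] [QuasiSeparatedSpace Z] (hvan : VanTw g π)
    (hpush : ∀ e m, LocPC m ((DCoh.Rpush π).obj (DCoh.inD Z (Tw g e)))) {K : DCoh.D Z} (hK : Good g π K) (m : ℤ) :
    LocPC m K := by
  have main : ∀ (k : ℕ) (b : ℤ) (K : DCoh.D Z), Good g π K → Bd g π b K → b < m + k → LocPC m K := by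
    intro k
    induction k with
    | zero =>
      intro b K hK hb hlt
      refine locPC_of_isPcMap (0 : (0 : DCoh.D Z) ⟶ K) (DQGen.isPerfect_of_isZero (isZero_zero _))
        ⟨fun i hi => ?_, ⟨fun u v _ => (isZero_hd_of_bd g π hK.1 hb m (by simpa using hlt)).eq_of_src _ _⟩⟩
      exact ⟨0, (Functor.map_isZero _ (isZero_zero _)).eq_of_src _ _,
        (isZero_hd_of_bd g π hK.1 hb i (by push_cast at hlt; omega)).eq_of_src _ _⟩
    | succ k ih =>
      intro b K hK hb hlt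
      have hft : ∀ d : Fin (n + 1), CohB1.IsFT (DCoh.HD ((DCoh.Rpush π).obj ((W g d.1).obj K)) b) :=
        fun d => isFT_top (hK.2 d b) (hb d)
      choose N α hα using fun d : Fin (n + 1) => exists_twist_gens g π (d.1 : ℤ) b hK.1 (hft d)
      refine locPC_of_genList g π b hvan hpush m
        (fun K' hK' hb' => ih (b - 1) K' hK' hb' (by push_cast at hlt; omega)) _ K
        ((List.finRange (n + 1)).flatMap fun d => (List.finRange (N d)).map fun j => ⟨d, α d j⟩) rfl hK hb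
        fun {K'} hK' f hf d χ => hα d hK' f (fun j => hf ⟨d, α d j⟩ ?_) χ
      exact List.mem_flatMap.2 ⟨d, List.mem_finRange d, List.mem_map.2 ⟨j, List.mem_finRange j, rfl⟩⟩
  choose B hB using fun d : Fin (n + 1) => DQGen.exists_top_bound (hK.2 d 0)
  refine main (((∑ d, (B d).natAbs : ℕ) : ℤ) - m + 1).toNat (∑ d, (B d).natAbs : ℕ) K hK (fun d i hi => ?_) (by omega)
  refine hB d i ?_
  have : (B d).natAbs ≤ ∑ e, (B e).natAbs :=
    Finset.single_le_sum (f := fun e => (B e).natAbs) (fun _ _ => Nat.zero_le _) (Finset.mem_univ d)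
  omega

end Groth.Agent.ProjPush
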