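import Groth.Agent.ProjPush.Kos
import Groth.Agent.KFlatLib.PsiC
import Groth.Agent.KRRReg.Koszul
import Groth.Agent.Lib.PnDualMul

/-!
# The Koszul complex of the coordinates of projective space
-/

set_option linter.style.haveILetI false
set_option backward.isDefEq.respectTransparency false
set_option backward.isDefEq.respectTransparency.types false

universe u

open CategoryTheory CategoryTheory.Limits AlgebraicGeometry TopologicalSpace Opposite ZeroObject

attribute [local instance] HasDerivedCategory.standard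

noncomputable section

namespace Groth.Agent.ProjPush

open Groth.Agent.KFlatLib Groth.Agent.PnDual

variable {n : ℕ} {A : Type u} [CommRing A]

lemma X_mem (j : Fin (n + 1)) : (MvPolynomial.X j : MvPolynomial (Fin (n + 1)) A) ∈ CohB1.polyGrading n A 1 :=
  MvPolynomial.isHomogeneous_X _ j

/-- Multiplication by a coordinate. -/
def coordMap (n : ℕ) (A : Type u) [CommRing A] (j : Fin (n + 1)) (a : ℤ) :
    Twist.twistProjSpace n A a ⟶ Twist.twistProjSpace n A (a + 1) :=
  mulHom (X_mem j) (e := 1) (show a + 1 = a + ((1 : ℕ) : ℤ) by simp)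

lemma coordMap_comm (i j : Fin (n + 1)) (a : ℤ) :
    coordMap n A i a ≫ coordMap n A j (a + 1) = coordMap n A j a ≫ coordMap n A i (a + 1) := by
  apply Scheme.Modules.hom_ext
  intro U
  ext s
  refine Subtype.ext (funext fun x => Subtype.ext ?_)
  exact mul_right_comm _ _ _

lemma isIso_stalk_mulHom {b : MvPolynomial (Fin (n + 1)) A} (hb : b ∈ CohB1.polyGrading n A 1) (d d' : ℤ)
    (h : d' = d + ((1 : ℕ) : ℤ)) {x : CohB1.ProjSpace n A}
    (hx : x ∈ PnCoh.Finite.D (CohB1.polyGrading n A) b) :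
    IsIso ((DerSch.stalkFunctor (CohB1.ProjSpace n A) x).map
      (mulHom hb h : Twist.twistProjSpace n A d ⟶ Twist.twistProjSpace n A d')) := by
  obtain rfl : d = d' - 1 := by simp at h; omega
  have e : (mulHom hb h : Twist.twist (CohB1.polyGrading n A) (d' - 1) ⟶ Twist.twist (CohB1.polyGrading n A) d') =
      ProjShift.xHom hb d' := by
    apply Scheme.Modules.hom_ext
    intro U
    ext s
    exact Subtype.ext (funext fun y => Subtype.ext rfl)
  haveI : IsIso ((stalkP x).map (DCoh.toP.map (ProjShift.xHom hb d'))) :=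
    (ConcreteCategory.isIso_iff_bijective _).2 (ProjShift.bijective_stalk hb hx d')
  have := (NatIso.isIso_map_iff (stalkToPIso (X := CohB1.ProjSpace n A) x) (ProjShift.xHom hb d')).2 this
  rw [← e] at this
  exact this

variable {Z : Scheme.{u}} (g : Z ⟶ CohB1.ProjSpace n A)

/-- The pulled back twists. -/
abbrev Tw (a : ℤ) : Z.Modules := (Scheme.Modules.pullback g).obj (Twist.twistProjSpace n A a)

/-- The pulled back multiplications by coordinates. -/
abbrev cmap (j : Fin (n + 1)) (a : ℤ) : Tw g a ⟶ Tw g (a + 1) :=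
  (Scheme.Modules.pullback g).map (coordMap n A j a)

lemma cmap_comm (i j : Fin (n + 1)) (a : ℤ) :
    cmap g i a ≫ cmap g j (a + 1) = cmap g j a ≫ cmap g i (a + 1) := by
  rw [← Functor.map_comp, ← Functor.map_comp, coordMap_comm]

lemma exists_isIso_stalk_cmap (z : Z) :
    ∃ j : Fin (n + 1), ∀ a, IsIso ((DerSch.stalkFunctor Z z).map (cmap g j a)) := by
  obtain ⟨j, hj⟩ := Opens.mem_iSup.1 ((PnCoh.iSup_mOpen_single (ι := Fin (n + 1)) (R := A)).ge
    (trivial : g.base z ∈ (⊤ : (CohB1.ProjSpace n A).Opens)))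
  refine ⟨j, fun a => ?_⟩
  haveI : IsIso ((DerSch.stalkFunctor (CohB1.ProjSpace n A) (g.base z)).map (coordMap n A j a)) :=
    isIso_stalk_mulHom (n := n) (X_mem j) a (a + 1) (by simp) (x := g.base z) hj
  exact (NatIso.isIso_map_iff (stalkPullbackIso g z) (coordMap n A j a)).2
    (Functor.map_isIso (ModuleCat.extendScalars (g.stalkMap z).hom)
      ((DerSch.stalkFunctor (CohB1.ProjSpace n A) (g.base z)).map (coordMap n A j a)))

/-- The Koszul complex starting at `a`. -/
def kosCx (a : ℤ) : CochainComplex Z.Modules ℤ :=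
  (Kos.kz (Tw g) (cmap g) (cmap_comm g) (List.finRange (n + 1))).E a

theorem isZero_Q_kosCx (a : ℤ) : IsZero (DerivedCategory.Q.obj (kosCx g a)) := by
  have hH : ∀ q : ℤ, IsZero (DCoh.HD (DerivedCategory.Q.obj (kosCx g a)) q) := fun q =>
    isZero_of_stalk _ fun z => by
      obtain ⟨j, hj⟩ := exists_isIso_stalk_cmap g z
      have h := Kos.isZero_of_mem (Tw g) (cmap g) (cmap_comm g) (DerSch.stalkFunctor Z z) hj
        (List.finRange (n + 1)) (List.mem_finRange j) a
      exact (Functor.map_isZero _ h).of_iso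
        ((mapDCHomologyIso (DerSch.stalkFunctor Z z) q).app _).symm
  haveI : IsIso (0 : DerivedCategory.Q.obj (kosCx g a) ⟶ (0 : DCoh.D Z)) := (DerivedCategory.isIso_iff _ _).2
    fun q => ⟨0, (hH q).eq_of_src _ _, (Functor.map_isZero _ (isZero_zero _)).eq_of_src _ _⟩
  exact (isZero_zero _).of_iso (asIso (0 : DerivedCategory.Q.obj (kosCx g a) ⟶ (0 : DCoh.D Z)))

/-- A triangulated class containing `n + 1` consecutive twists contains all twists. -/
theorem mem_of_window (Ψ : ObjectProperty (DCoh.D Z)) [Ψ.IsTriangulated] [Ψ.IsClosedUnderIsomorphisms]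
    (a₀ : ℤ) (h : ∀ a, a₀ ≤ a → a ≤ a₀ + n → Ψ (DCoh.inD Z (Tw g a))) (a : ℤ) : Ψ (DCoh.inD Z (Tw g a)) := by
  obtain ⟨Z₀, hZ₀, hΨ⟩ := Ψ.exists_prop_of_containsZero
  have hlen : ((List.finRange (n + 1)).length : ℤ) = n + 1 := by simp
  have hk : ∀ b, Ψ (DerivedCategory.Q.obj (kosCx g b)) := fun b =>
    Ψ.prop_of_iso (hZ₀.iso (isZero_Q_kosCx g b)) hΨ
  suffices key : ∀ (d : ℕ) (b : ℤ), a₀ - d ≤ b → b ≤ a₀ + n + d → Ψ (DCoh.inD Z (Tw g b)) from
    key (a - a₀).natAbs a (by omega) (by omega)
  intro d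
  induction d with
  | zero => exact fun b hb hb' => h b (by simpa using hb) (by simpa using hb')
  | succ d ih =>
    intro b hb hb'
    push_cast at hb hb'
    by_cases h1 : a₀ - d ≤ b ∧ b ≤ a₀ + n + d
    · exact ih b h1.1 h1.2
    by_cases h2 : b < a₀ - d
    · exact (Kos.mem_iff_low (Tw g) (cmap g) (cmap_comm g) Ψ (List.finRange (n + 1)) b
        fun c hc hc' => ih c (by omega) (by omega)).1 (hk b)
    · have := (Kos.mem_iff_high (Tw g) (cmap g) (cmap_comm g) Ψ (List.finRange (n + 1)) (b - (n + 1))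
        fun c hc hc' => ih c (by omega) (by omega)).1 (hk _)
      rwa [hlen, show b - (n + 1) + ((n : ℤ) + 1) = b by omega] at this

end Groth.Agent.ProjPush
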