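import Groth.Agent.ProjPush.DetectMain
import Groth.Agent.ProjPush.TwistKos
import Groth.Agent.AmpleX.Proj
import Groth.Agent.AmpleVan.Uniform
import Groth.Agent.InvX.GenLocusPull
import Groth.Agent.PicClLib.Basic
import Mathlib.CategoryTheory.Triangulated.Orthogonal

/-!
# Twisting sheaves detect zero
-/

set_option linter.style.haveILetI false
set_option backward.isDefEq.respectTransparency false
set_option backward.isDefEq.respectTransparency.types false

universe u

open CategoryTheory CategoryTheory.Limits AlgebraicGeometry TopologicalSpace Opposite Pretriangulated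

attribute [local instance] HasDerivedCategory.standard

noncomputable section

namespace Groth.Agent.ProjPush

open Groth.Agent.KFlatLib AmpleVan Groth.Agent.H23.PicMul

variable {X : Scheme.{u}}

/-- Iterated twists are tensor products with powers, functorially. -/
def itwTwIso (L : X.Modules) : ∀ n, itw L n ≅ tw (CohB1.tensorPow L n)
  | 0 => twUnit.symm
  | n + 1 => Functor.isoWhiskerRight (itwTwIso L n) (tw L) ≪≫ twComp (CohB1.tensorPow L n) L

theorem nonempty_itw_comp (L L' : X.Modules) (h : PicF.cl L * PicF.cl L' = 1) (n : ℕ) :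
    Nonempty (itw L n ⋙ itw L' n ≅ 𝟭 X.Modules) := by
  have h' : PicF.cl (CohB1.tensorMod (CohB1.tensorPow L n) (CohB1.tensorPow L' n)) =
      PicF.cl (Coh.structureModule X) := by
    rw [cl_tensor, cl_tensorPow, cl_tensorPow, ← mul_pow, h, one_pow]
    rfl
  obtain ⟨e⟩ := cl_eq_iff.1 h'
  exact ⟨Functor.isoWhiskerRight (itwTwIso L n) (itw L' n) ≪≫
    Functor.isoWhiskerLeft (tw (CohB1.tensorPow L n)) (itwTwIso L' n) ≪≫
    twComp (CohB1.tensorPow L n) (CohB1.tensorPow L' n) ≪≫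
    (DCoh.tensorBi (X := X)).flip.mapIso e ≪≫ twUnit⟩

/-- A natural inverse descends to the derived category. -/
theorem nonempty_mapD_comp {C : Type*} [Category C] [Abelian C] [HasDerivedCategory C]
    {C' : Type*} [Category C'] [Abelian C'] [HasDerivedCategory C']
    (F : C ⥤ C') (G : C' ⥤ C) [F.Additive] [G.Additive] [PreservesFiniteLimits F] [PreservesFiniteColimits F]
    [PreservesFiniteLimits G] [PreservesFiniteColimits G] (e : F ⋙ G ≅ 𝟭 C) :
    Nonempty (F.mapDerivedCategory ⋙ G.mapDerivedCategory ≅ 𝟭 (DerivedCategory C)) := by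
  letI : Localization.Lifting DerivedCategory.Q (HomologicalComplex.quasiIso C (ComplexShape.up ℤ))
      (F.mapHomologicalComplex (ComplexShape.up ℤ) ⋙ G.mapHomologicalComplex (ComplexShape.up ℤ) ⋙ DerivedCategory.Q)
      (F.mapDerivedCategory ⋙ G.mapDerivedCategory) :=
    ⟨(Functor.associator _ _ _).symm ≪≫ Functor.isoWhiskerRight F.mapDerivedCategoryFactors _ ≪≫
      Functor.associator _ _ _ ≪≫ Functor.isoWhiskerLeft _ G.mapDerivedCategoryFactors⟩
  exact ⟨Localization.liftNatIso DerivedCategory.Q (HomologicalComplex.quasiIso C (ComplexShape.up ℤ))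
    (F.mapHomologicalComplex (ComplexShape.up ℤ) ⋙ G.mapHomologicalComplex (ComplexShape.up ℤ) ⋙ DerivedCategory.Q)
    DerivedCategory.Q _ _
    ((Functor.associator _ _ _).symm ≪≫
      Functor.isoWhiskerRight (Functor.mapHomologicalComplexCompIso e (ComplexShape.up ℤ) ≪≫
        Functor.mapHomologicalComplexIdIso C (ComplexShape.up ℤ)) DerivedCategory.Q ≪≫ Functor.leftUnitor _)⟩

/-- Negative powers of an invertible module with an affine generating cover detect zero. -/
theorem isZero_of_neg_powers [CompactSpace X] [QuasiSeparatedSpace X] (L L' : X.Modules)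
    (hL : PicF.IsInvertible L) (hL' : PicF.IsInvertible L') (hinv : PicF.cl L * PicF.cl L' = 1)
    (hinv' : PicF.cl L' * PicF.cl L = 1) {κ : Type*}
    (s : κ → (Coh.structureModule X ⟶ L)) (hcov : ∀ x : X, ∃ i, x ∈ CohB1.genLocus L (s i))
    (haff : ∀ i, IsAffineOpen (CohB1.genLocus L (s i))) {K : DCoh.D X} (hK : DCoh.IsQCohD K)
    (h : ∀ (n : ℕ) (m : ℤ) (φ : (DCoh.inD X ((itw L' n).obj (Coh.structureModule X)))⟦m⟧ ⟶ K), φ = 0) :
    IsZero K := by
  haveI : ∀ n, (itw L n).IsEquivalence := isEquivalence_itw hL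
  haveI : ∀ n, (itw L' n).IsEquivalence := isEquivalence_itw hL'
  haveI : ∀ n, (itw L n).Additive := fun n => Functor.additive_of_preserves_binary_products _
  haveI : ∀ n, (itw L' n).Additive := fun n => Functor.additive_of_preserves_binary_products _
  refine isZero_of_twists hL s hcov haff hK fun n m φ => ?_
  obtain ⟨e₁⟩ := nonempty_itw_comp L L' hinv n
  obtain ⟨e₂⟩ := nonempty_itw_comp L' L hinv' n
  obtain ⟨E₁⟩ := nonempty_mapD_comp (itw L n) (itw L' n) e₁
  obtain ⟨E₂⟩ := nonempty_mapD_comp (itw L' n) (itw L n) e₂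
  haveI : (twD L' n).Faithful := Functor.Faithful.of_comp_iso E₂
  let O := DCoh.inD X (Coh.structureModule X)
  let a : (DCoh.inD X ((itw L' n).obj (Coh.structureModule X)))⟦m⟧ ≅ (twD L' n).obj (O⟦m⟧) :=
    (shiftFunctor (DCoh.D X) m).mapIso
      (((itw L' n).mapDerivedCategorySingleFunctor 0).app (Coh.structureModule X)).symm ≪≫
      (((twD L' n).commShiftIso m).app O).symm
  have h0 := h n m (a.hom ≫ (twD L' n).map φ ≫ E₁.hom.app K)
  refine (twD L' n).map_injective ?_
  rw [Functor.map_zero, ← cancel_epi a.hom, comp_zero, ← cancel_mono (E₁.hom.app K), zero_comp,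
    Category.assoc]
  exact h0

section Proj

variable {n : ℕ} {A : Type u} [CommRing A]

theorem cov_X : ⨆ j : Fin (n + 1), Proj.basicOpen (CohB1.polyGrading n A)
    (MvPolynomial.X j : MvPolynomial (Fin (n + 1)) A) = ⊤ :=
  PnCoh.iSup_mOpen_single (ι := Fin (n + 1)) (R := A)

variable {Z : Scheme.{u}} (g : Z ⟶ CohB1.ProjSpace n A)

lemma isInvertible_Tw (a : ℤ) : PicF.IsInvertible (Tw g a) :=
  PicClLib.isInvertible_pullback g (PnCoh.Finite.isInvertible_twist
    (fun j : Fin (n + 1) => (MvPolynomial.X j : MvPolynomial (Fin (n + 1)) A)) X_mem cov_X a)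

lemma cl_Tw_add (a b : ℤ) : PicF.cl (Tw g (a + b)) = PicF.cl (Tw g a) * PicF.cl (Tw g b) := by
  show PicF.pullCl g (PicF.cl (Twist.twistProjSpace n A (a + b))) =
    PicF.pullCl g (PicF.cl (Twist.twistProjSpace n A a)) * PicF.pullCl g (PicF.cl (Twist.twistProjSpace n A b))
  rw [← pullCl_mul]
  refine congrArg (PicF.pullCl g) ?_
  rw [← cl_tensor]
  exact (cl_eq_iff.2 (PnCoh.Finite.twist_tensor_iso (𝒜 := CohB1.polyGrading n A)
    (fun j : Fin (n + 1) => (MvPolynomial.X j : MvPolynomial (Fin (n + 1)) A)) X_mem cov_X a b)).symm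

lemma cl_Tw_zero : PicF.cl (Tw g 0) = 1 := by
  have h := cl_Tw_add g 0 0
  rw [add_zero] at h
  exact ((isUnit_cl (isInvertible_Tw g 0)).mul_eq_left.1 h.symm)

lemma cl_Tw_neg_pow (m : ℕ) : PicF.cl (Tw g (-(m : ℤ))) = PicF.cl (Tw g (-1)) ^ m := by
  induction m with
  | zero => simpa using cl_Tw_zero g
  | succ m ih => rw [pow_succ, ← ih, ← cl_Tw_add, show -((m + 1 : ℕ) : ℤ) = -(m : ℤ) + -1 by push_cast; omega]

/-- Negative twists detect zero. -/
theorem isZero_of_twists_neg [IsAffineHom g] [QuasiSeparatedSpace Z] {K : DCoh.D Z} (hK : DCoh.IsQCohD K)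
    (h : ∀ (d : ℕ) (m : ℤ) (φ : (DCoh.inD Z (Tw g (-(d : ℤ))))⟦m⟧ ⟶ K), φ = 0) : IsZero K := by
  haveI : CompactSpace Z := by
    haveI := PnCoh.Chow.isProper_toSpec n A
    haveI : CompactSpace (CohB1.ProjSpace n A) :=
      QuasiCompact.compactSpace_of_compactSpace (CohB1.ProjSpace.toSpec n A)
    exact QuasiCompact.compactSpace_of_compactSpace g
  have hinv : PicF.cl (Tw g 1) * PicF.cl (Tw g (-1)) = 1 := by
    rw [← cl_Tw_add]; exact cl_Tw_zero g
  have hinv' : PicF.cl (Tw g (-1)) * PicF.cl (Tw g 1) = 1 := by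
    rw [← cl_Tw_add]; exact cl_Tw_zero g
  obtain ⟨e⟩ := PicClLib.nonempty_pullback_structureModule g
  let s : Fin (n + 1) → (Coh.structureModule Z ⟶ Tw g 1) := fun j =>
    e.inv ≫ (Scheme.Modules.pullback g).map (InvX.ofSect (ProjUPX.sec (CohB1.polyGrading n A) (X_mem j)))
  have hs : ∀ j, CohB1.genLocus (Tw g 1) (s j) =
      g ⁻¹ᵁ Proj.basicOpen (CohB1.polyGrading n A) (MvPolynomial.X j : MvPolynomial (Fin (n + 1)) A) := fun j => by
    refine (InvX.genLocus_pullback g (PnCoh.Finite.isInvertible_twist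
      (fun j : Fin (n + 1) => (MvPolynomial.X j : MvPolynomial (Fin (n + 1)) A)) X_mem cov_X 1) _ e.symm).trans ?_
    exact congrArg (g ⁻¹ᵁ ·) (AmpleX.genLocus_sec (CohB1.polyGrading n A)
      (fun j : Fin (n + 1) => (MvPolynomial.X j : MvPolynomial (Fin (n + 1)) A)) X_mem cov_X (X_mem j))
  refine isZero_of_neg_powers (Tw g 1) (Tw g (-1)) (isInvertible_Tw g 1) (isInvertible_Tw g (-1)) hinv hinv' s
    (fun z => ?_) (fun j => ?_) hK fun d m φ => ?_
  · obtain ⟨j, hj⟩ := Opens.mem_iSup.1 ((cov_X (n := n) (A := A)).ge (trivial : g.base z ∈ (⊤ : Opens _)))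
    exact ⟨j, by rw [hs]; exact hj⟩
  · rw [hs]
    exact (Proj.isAffineOpen_basicOpen _ _ (X_mem j) one_pos).preimage g
  · obtain ⟨i⟩ : Nonempty (Tw g (-(d : ℤ)) ≅ (itw (Tw g (-1)) d).obj (Coh.structureModule Z)) := by
      refine cl_eq_iff.1 ?_
      rw [cl_itw, cl_Tw_neg_pow]
      exact (one_mul _).symm
    rw [← cancel_epi (((DerivedCategory.singleFunctor Z.Modules 0).map i.hom)⟦m⟧'), comp_zero]
    exact h d m _

/-- A class of maps out of finitely many consecutive twists detects zero. -/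
theorem isZero_of_twists_window [IsAffineHom g] [QuasiSeparatedSpace Z] {K : DCoh.D Z} (hK : DCoh.IsQCohD K)
    (a₀ : ℤ) (h : ∀ a, a₀ ≤ a → a ≤ a₀ + n → ∀ (m : ℤ) (φ : (DCoh.inD Z (Tw g a))⟦m⟧ ⟶ K), φ = 0) :
    IsZero K := by
  let Q : ObjectProperty (DCoh.D Z) := fun E => ∃ m : ℤ, Nonempty (E ≅ K⟦m⟧)
  haveI : Q.IsStableUnderShift ℤ :=
    { isStableUnderShiftBy := fun a => ⟨fun E ⟨m, ⟨e⟩⟩ => ⟨m + a, ⟨(shiftFunctor _ a).mapIso e ≪≫
        ((shiftFunctorAdd' (DCoh.D Z) m a (m + a) rfl).app K).symm⟩⟩⟩ }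
  have hΨ : ∀ a, a₀ ≤ a → a ≤ a₀ + n → Q.leftOrthogonal (DCoh.inD Z (Tw g a)) := by
    rintro a h₁ h₂ E φ ⟨m, ⟨e⟩⟩
    rw [← cancel_mono e.hom, zero_comp]
    refine (shiftFunctor (DCoh.D Z) (-m)).map_injective ?_
    rw [Functor.map_zero, ← cancel_mono ((shiftFunctorCompIsoId (DCoh.D Z) m (-m) (by simp)).hom.app K), zero_comp]
    exact h a h₁ h₂ (-m) _
  refine isZero_of_twists_neg g hK fun d m φ => ?_
  have := mem_of_window g Q.leftOrthogonal a₀ hΨ (-(d : ℤ))
  refine (shiftFunctor (DCoh.D Z) (-m)).map_injective ?_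
  rw [Functor.map_zero, ← cancel_epi ((shiftFunctorCompIsoId (DCoh.D Z) m (-m) (by simp)).inv.app _), comp_zero]
  exact this _ ⟨-m, ⟨Iso.refl _⟩⟩

end Proj

end Groth.Agent.ProjPush
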