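import Groth.Agent.CohBasic.PnBC
import Groth.Agent.AVVanish.Skyscraper
import Groth.Agent.KRRReg.PushTw
import Groth.Agent.KFlatLib.Scheme.RpushQCoh
import Groth.Agent.DQGen.Compact
import Groth.Agent.ProjPush.TwistApply

/-!
# Derived direct images of the twisting sheaves of a projective space
-/

set_option linter.style.haveILetI false
set_option backward.isDefEq.respectTransparency false
set_option backward.isDefEq.respectTransparency.types false
set_option synthInstance.maxHeartbeats 200000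

universe u

open CategoryTheory CategoryTheory.Limits AlgebraicGeometry TopologicalSpace Opposite Pretriangulated

attribute [local instance] HasDerivedCategory.standard

attribute [-instance] ULift.module ULift.smulLeft ULift.mulAction ULift.smulZeroClass ULift.distribSMul
  ULift.distribMulAction ULift.smulWithZero ULift.mulActionWithZero

noncomputable section

namespace Groth.Agent.ProjPush

open Groth.Agent.KFlatLib

variable {X : Scheme.{u}}

/-- An object with cohomology in degree zero only is a module. -/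
lemma nonempty_iso_inD {K : DCoh.D X} {N : X.Modules} (h₀ : Nonempty (DCoh.HD K 0 ≅ N))
    (h : ∀ i : ℤ, i ≠ 0 → IsZero (DCoh.HD K i)) : Nonempty (K ≅ DCoh.inD X N) := by
  haveI : K.IsGE 0 := (DerivedCategory.isGE_iff K 0).2 fun i hi => h i (by omega)
  haveI : K.IsLE 0 := (DerivedCategory.isLE_iff K 0).2 fun i hi => h i (by omega)
  obtain ⟨M, ⟨e⟩⟩ := DerivedCategory.exists_iso_singleFunctor_obj_of_isGE_of_isLE K 0
  obtain ⟨e₀⟩ := h₀
  exact ⟨e ≪≫ (DerivedCategory.singleFunctor X.Modules 0).mapIso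
    (((DerivedCategory.singleFunctorCompHomologyFunctorIso X.Modules 0).app M).symm ≪≫
      (DerivedCategory.homologyFunctor X.Modules 0).mapIso e.symm ≪≫ e₀)⟩

/-- A finite locally free module is perfect. -/
lemma isPerfect_inD {N : X.Modules} (hN : FlatMod.IsFinLocFree N) :
    DCoh.IsPerfect (DCoh.inD X N) := by
  refine (isPerfect_iff _).2 fun x => ⟨_, (⊤ : X.Opens).ι, inferInstance, ⟨⟨x, trivial⟩, rfl⟩,
    _, ?_, ⟨((rhoQ (⊤ : X.Opens).ι).app _).symm ≪≫ (rho (⊤ : X.Opens).ι).mapIso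
      ((DerivedCategory.singleFunctorIsoCompQ X.Modules 0).app N).symm⟩⟩
  refine isStrictlyPerfect_restrict _ ⟨⟨0, 0, fun i hi =>
    HomologicalComplex.isZero_single_obj_X (ComplexShape.up ℤ) 0 _ i (by omega)⟩, fun i => ?_⟩
  rcases eq_or_ne i 0 with h | h
  · subst h
    exact H23.PullPush.isFinLocFree_of_iso
      (HomologicalComplex.singleObjXSelf (ComplexShape.up ℤ) 0 _).symm hN
  · exact isFinLocFree_of_isZero (HomologicalComplex.isZero_single_obj_X (ComplexShape.up ℤ) 0 _ i h)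

section

variable (r : ℕ) (Y : Scheme.{u})

local notation "π" => CohB1.ProjSpaceOver.toBase r Y

lemma quasiCompact_toBase : QuasiCompact (CohB1.ProjSpaceOver.toBase r Y) :=
  MorphismProperty.pullback_snd (P := @QuasiCompact) _ _ inferInstance

lemma quasiSeparated_toBase : QuasiSeparated (CohB1.ProjSpaceOver.toBase r Y) :=
  MorphismProperty.pullback_snd (P := @QuasiSeparated) _ _ inferInstance

theorem isZero_Rpush_twistOver [HasInjectiveResolutions (CohB1.ProjSpaceOver r Y).Modules] (d : ℤ) (i : ℕ)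
    (h : ¬ ((i = 0 ∧ 0 ≤ d) ∨ (i = r ∧ d ≤ -((r : ℤ) + 1)))) :
    IsZero ((Coh.Rpush π i).obj (Twist.twistOver r Y d)) := by
  haveI := quasiCompact_toBase r Y
  haveI := quasiSeparated_toBase r Y
  haveI : (QCoh.toAbFunctor Y).Faithful := inferInstanceAs (SheafOfModules.toSheaf _).Faithful
  have hz := CohBasic.isZero_RpushAb_twistOver r d Y i h
  obtain ⟨e⟩ := AVVanish.nonempty_toAb_Rpush π (Twist.twistOver r Y d) i
  refine (IsZero.iff_id_eq_zero _).2 ((QCoh.toAbFunctor Y).map_injective ?_)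
  exact ((hz.of_iso e.symm).eq_of_src _ _)

/-- The direct image of the structure sheaf of a projective space is the structure sheaf. -/
theorem nonempty_push_twistOver_zero [IsAffine Y] :
    Nonempty ((Scheme.Modules.pushforward π).obj (Twist.twistOver r Y 0) ≅ FlatMod.freeMod Y 1) := by
  let φ : Y ⟶ KRRReg.Y0.{u} := specULiftZIsTerminal.from Y
  have hsq : KRR.projSpaceMap r φ ≫ KRR.pr r KRRReg.Y0 = KRR.pr r Y ≫ φ := specULiftZIsTerminal.hom_ext _ _
  let F₀ := KRR.twF r KRRReg.Y0.{u} ((0 : ℕ) : ℤ) (Coh.structureModule (KRR.PY r KRRReg.Y0))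
  haveI := KRRReg.isIso_bcMap φ hsq (KRRReg.isFinLocFree_twF_structure KRRReg.Y0 ((0 : ℕ) : ℤ))
    (KRRReg.isRegSheaf_twF_structure (n := r) KRRReg.Y0 0)
  obtain ⟨e⟩ := KRRReg.nonempty_push_Y0_iso.{u} (n := r) 0
  obtain ⟨c⟩ := KRRReg.twF_pullback_iso φ (Coh.structureModule (KRR.PY r KRRReg.Y0)) ((0 : ℕ) : ℤ)
  obtain ⟨s⟩ := PicClLib.nonempty_pullback_structureModule (KRR.projSpaceMap r φ)
  obtain ⟨t⟩ := KRRReg.twF_structure_iso (n := r) Y ((0 : ℕ) : ℤ)
  have hc : Nat.choose (r + 0) 0 = 1 := Nat.choose_zero_right _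
  exact ⟨(Scheme.Modules.pushforward (KRR.pr r Y)).mapIso
      (t.symm ≪≫ (DCoh.tensorBi.obj (Twist.twistOver r Y ((0 : ℕ) : ℤ))).mapIso s.symm ≪≫ c) ≪≫
    (asIso (KRR.bcMap r φ hsq F₀)).symm ≪≫ (Scheme.Modules.pullback φ).mapIso e ≪≫ KFlatLib.pullFreeIso φ _ ≪≫
    eqToIso (by rw [hc])⟩

variable [IsAffine Y] [DCoh.HasRpush (CohB1.ProjSpaceOver.toBase r Y)]

/-- The derived direct image of the twists in the window `[-r, 0]` is perfect. -/
theorem isPerfect_rpush_twistOver (d : ℤ) (h₁ : -(r : ℤ) ≤ d) (h₂ : d ≤ 0) :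
    DCoh.IsPerfect ((DCoh.Rpush π).obj (DCoh.inD _ (Twist.twistOver r Y d))) := by
  haveI := quasiCompact_toBase r Y
  haveI := quasiSeparated_toBase r Y
  have hz : ∀ i : ℤ, ¬ (i = 0 ∧ d = 0) →
      IsZero (DCoh.HD ((DCoh.Rpush π).obj (DCoh.inD _ (Twist.twistOver r Y d))) i) := fun i hi => by
    rcases lt_or_ge i 0 with h | h
    · exact isZero_hd_rpush_of_lt π _ 0 _ h
    · obtain ⟨k, rfl⟩ := Int.eq_ofNat_of_zero_le h
      obtain ⟨e⟩ := nonempty_hd_rpush_single π (Twist.twistOver r Y d) k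
      exact (isZero_Rpush_twistOver r Y d k (by omega)).of_iso e
  rcases eq_or_lt_of_le h₂ with rfl | hd
  · obtain ⟨e₁⟩ := nonempty_hd_rpush_single π (Twist.twistOver r Y 0) 0
    haveI := SpObjSS.enoughInjectives_of_hasInjectiveResolutions (C := (CohB1.ProjSpaceOver r Y).Modules)
    haveI := QCoh.preservesFiniteLimits_push π
    obtain ⟨e₂⟩ := nonempty_push_twistOver_zero r Y
    obtain ⟨e⟩ := nonempty_iso_inD ⟨e₁ ≪≫
      (Scheme.Modules.pushforward π).rightDerivedZeroIsoSelf.app _ ≪≫ e₂⟩ fun i hi => hz i (by omega)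
    exact ((isPerfect_iff _).2 (((isPerfect_iff _).1 (isPerfect_inD (isFinLocFree_freeMod 1))).of_iso e.symm))
  · refine DQGen.isPerfect_of_isZero ?_
    obtain ⟨e⟩ := nonempty_iso_inD (N := DCoh.HD ((DCoh.Rpush π).obj (DCoh.inD _ (Twist.twistOver r Y d))) 0)
      ⟨Iso.refl _⟩ fun i hi => hz i (by omega)
    exact (Functor.map_isZero _ (hz 0 (by omega))).of_iso e

end

end Groth.Agent.ProjPush
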