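import Groth.Agent.S0844
import Groth.Agent.CohBasic.EulerBC
import Groth.Agent.CohBasic.RpushAbZero
import Groth.Agent.AVVanish.Skyscraper
import Groth.Agent.ProjPush.TwistKos
import Groth.Agent.ProjPush.PushTwists
import Groth.Agent.PushAmp.TensorPerfect
import Groth.Agent.PnCoh.Chow.Proper
import Groth.Agent.KFlatLib.Scheme.RpushQCoh
import Groth.Agent.AmpleVan.Tw
import Groth.Agent.KFlatLib.Scheme.Amplitude

/-!
# Twists on `P^n_A` and the derived functors
-/

set_option linter.style.haveILetI false
set_option backward.isDefEq.respectTransparency false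
set_option backward.isDefEq.respectTransparency.types false
set_option synthInstance.maxHeartbeats 200000

universe u

open CategoryTheory CategoryTheory.Limits AlgebraicGeometry TopologicalSpace Opposite

attribute [local instance] HasDerivedCategory.standard

noncomputable section

namespace Groth.Agent.ProjPush

open Groth.Agent.KFlatLib

/-- Higher direct images of twists in the window and above vanish. -/
theorem isZero_hd_rpush_toSpec (n : ℕ) (A : Type u) [CommRing A] [DCoh.HasRpush (CohB1.ProjSpace.toSpec n A)]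
    (e : ℤ) (i : ℤ) (he : -(n : ℤ) ≤ e) (hi : 0 < i) :
    IsZero (DCoh.HD ((DCoh.Rpush (CohB1.ProjSpace.toSpec n A)).obj
      (DCoh.inD _ (Twist.twistProjSpace n A e))) i) := by
  let π := CohB1.ProjSpace.toSpec n A
  haveI := PnCoh.Chow.isProper_toSpec n A
  haveI := hasInjectiveResolutions_modules (X := CohB1.ProjSpace n A)
  obtain ⟨q, rfl⟩ := Int.eq_ofNat_of_zero_le hi.le
  obtain ⟨e₀⟩ := nonempty_hd_rpush_single π (Twist.twistProjSpace n A e) q
  refine IsZero.of_iso ?_ e₀
  have hM : Coh.IsQCoh (Twist.twistProjSpace n A e) := CohBasic.isQCoh_twistProjSpace n A e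
  obtain ⟨θ⟩ := AVVanish.nonempty_toAb_Rpush π (Twist.twistProjSpace n A e) q
  obtain ⟨E⟩ := QCoh.nonempty_HH_equiv_sections π hM q
  have hs : Subsingleton Γ((Coh.Rpush π q).obj (Twist.twistProjSpace n A e), ⊤) :=
    @Equiv.subsingleton _ _ (((sheafToPresheaf _ _).mapIso θ).app (op ⊤)).addCommGroupIsoToAddEquiv.toEquiv.symm
      (@Equiv.subsingleton _ _ E.toEquiv.symm
        (S0844.result A n e q (by omega) (by omega)))
  exact QCoh.isZero_of_cover (QCoh.isQCoh_Rpush π hM q) (fun _ : Unit => (⊤ : (Spec (CommRingCat.of A)).Opens))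
    (fun _ => isAffineOpen_top _) (fun _ => ⟨(), trivial⟩) fun _ => hs

/-- Derived tensor product with a flat module. -/
theorem nonempty_ltensorMod_tw {X : Scheme.{u}} (M : X.Modules) [DCoh.HasLTensorMod M]
    [PreservesFiniteLimits (AmpleVan.tw M)] [PreservesFiniteColimits (AmpleVan.tw M)] [(AmpleVan.tw M).Additive]
    (K : DCoh.D X) : Nonempty ((DCoh.LTensorMod M).obj K ≅ (AmpleVan.tw M).mapDerivedCategory.obj K) := by
  let R := repK K
  have hR : DCoh.IsKFlat R := isKFlat_repK K
  haveI := isIso_ltensorModComparison M hR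
  let c : ((DCoh.tensorRightMod M).mapHomologicalComplex (ComplexShape.up ℤ)).obj R ≅
      ((AmpleVan.tw M).mapHomologicalComplex (ComplexShape.up ℤ)).obj R :=
    HomologicalComplex.Hom.isoOfComponents (fun _ => Iso.refl _) (fun p q _ =>
      (Category.id_comp _).trans (Category.comp_id _).symm)
  exact ⟨(DCoh.LTensorMod M).mapIso (repKIso K).symm ≪≫ asIso ((ltensorModComparison M).app R) ≪≫
    DerivedCategory.Q.mapIso c ≪≫ ((AmpleVan.tw M).mapDerivedCategoryFactors.app R).symm ≪≫
    (AmpleVan.tw M).mapDerivedCategory.mapIso (repKIso K)⟩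

/-- Derived tensor product with a finite locally free module preserves pseudo-coherence. -/
theorem locPC_ltensorMod {X : Scheme.{u}} (M : X.Modules) (hM : FlatMod.IsFinLocFree M) [DCoh.HasLTensorMod M]
    (K : DCoh.D X) (hK : ∀ m, LocPC m K) (m : ℤ) : LocPC m ((DCoh.LTensorMod M).obj K) := by
  let R := repK K
  have hR : DCoh.IsKFlat R := isKFlat_repK K
  let S := (HomologicalComplex.single X.Modules (ComplexShape.up ℤ) 0).obj M
  haveI := hasLTensorCx S
  haveI := hasLTensorCx R
  haveI := isIso_ltensorModComparison M hR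
  obtain ⟨t⟩ := PushAmp.nonempty_ltensor_comm S R
  have h := PushAmp.locPC_ltensor_perfect R (DCoh.toD X S)
    (DQGen.isPerfect_of_iso ((DerivedCategory.singleFunctorIsoCompQ X.Modules 0).app M) (isPerfect_inD hM))
    (fun m' => (hK m').of_iso (repKIso K).symm) m
  exact h.of_iso (t.symm ≪≫ ltensorCxIso S hR ≪≫
    DerivedCategory.Q.mapIso ((singleIso DCoh.tensorBi M).app R) ≪≫
    (asIso ((ltensorModComparison M).app R)).symm ≪≫ (DCoh.LTensorMod M).mapIso (repKIso K))

end Groth.Agent.ProjPush
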