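import Groth.Agent.ProjPush.PushPC
import Groth.Agent.KFlatLib.Scheme.RpushRestrict
import Groth.Agent.KFlatLib.Scheme.Adjoint
import Groth.Agent.KFlatLib.Scheme.ProjLocFree
import Groth.Agent.KRRReg.BaseChange

/-!
# Pseudo-coherence and perfectness of direct images along projective spaces over any base
-/

set_option linter.style.haveILetI false
set_option backward.isDefEq.respectTransparency false
set_option backward.isDefEq.respectTransparency.types false
set_option synthInstance.maxHeartbeats 200000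

universe u

open CategoryTheory CategoryTheory.Limits AlgebraicGeometry TopologicalSpace Opposite Pretriangulated

attribute [local instance] HasDerivedCategory.standard

noncomputable section

namespace Groth.Agent.ProjPush

open Groth.Agent.KFlatLib Groth.Agent.DQGen

section Iso

variable {X X' : Scheme.{u}} (q : X ⟶ X') [IsIso q] [DCoh.HasRpush q]

lemma locPC_rpush_of_isIso {m : ℤ} {K : DCoh.D X} (hK : LocPC m K) :
    LocPC m ((DCoh.Rpush q).obj K) :=
  LocPC.of_local fun x => ⟨X, q, inferInstance, q.surjective x, hK.of_iso (restrictPushIso q K).symm⟩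

lemma locSP_rpush_of_isIso {K : DCoh.D X} (hK : LocSP K) :
    LocSP ((DCoh.Rpush q).obj K) :=
  LocSP.of_local fun x => ⟨X, q, inferInstance, q.surjective x, hK.of_iso (restrictPushIso q K).symm⟩

end Iso

variable (r : ℕ) (Y : Scheme.{u})

lemma projSpaceMap_toBase {Y₁ : Scheme.{u}} (φ : Y₁ ⟶ Y) :
    KRR.projSpaceMap r φ ≫ KRR.pr r Y = KRR.pr r Y₁ ≫ φ := by
  simp [KRR.projSpaceMap, KRR.pr, CohB1.ProjSpaceOver.toBase]

/-- Over an open of the base, the projective space is the preimage. -/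
lemma exists_iso_preimage (V : Y.Opens) :
    ∃ q : ((CohB1.ProjSpaceOver.toBase r Y ⁻¹ᵁ V : (CohB1.ProjSpaceOver r Y).Opens) : Scheme.{u}) ⟶
        CohB1.ProjSpaceOver r (V : Scheme.{u}),
      IsIso q ∧ q ≫ CohB1.ProjSpaceOver.toBase r (V : Scheme.{u}) = CohB1.ProjSpaceOver.toBase r Y ∣_ V := by
  have h₁ := isPullback_morphismRestrict (CohB1.ProjSpaceOver.toBase r Y) V
  have h₂ := KRRReg.isPullback_projSpaceMap (n := r) V.ι (projSpaceMap_toBase r Y V.ι)
  exact ⟨(h₁.flip.isoIsPullback _ _ h₂).hom, inferInstance, IsPullback.isoIsPullback_hom_snd _ _ _ _⟩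

variable [DCoh.HasRpush (CohB1.ProjSpaceOver.toBase r Y)]

/-- The derived direct image along `P^r_Y ⟶ Y` preserves pseudo-coherence, for any base. -/
theorem locPC_rpush_projSpaceOver' (E : DCoh.D (CohB1.ProjSpaceOver r Y)) (hE : ∀ m, LocPC m E) (m : ℤ) :
    LocPC m ((DCoh.Rpush (CohB1.ProjSpaceOver.toBase r Y)).obj E) := by
  refine LocPC.of_local fun y => ?_
  obtain ⟨V, hV, hyV⟩ : ∃ V : Y.Opens, IsAffineOpen V ∧ y ∈ V := by
    obtain ⟨_, ⟨V, hV, rfl⟩, hyV, -⟩ :=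
      Y.isBasis_affineOpens.exists_subset_of_mem_open (Set.mem_univ y) isOpen_univ
    exact ⟨V, hV, hyV⟩
  refine ⟨_, V.ι, inferInstance, ⟨⟨y, hyV⟩, rfl⟩, ?_⟩
  haveI : IsAffine (V : Scheme.{u}) := hV
  let f := CohB1.ProjSpaceOver.toBase r Y
  obtain ⟨q, hq, hqf⟩ := exists_iso_preimage r Y V
  let p := CohB1.ProjSpaceOver.toBase r (V : Scheme.{u})
  haveI := hasRpush_scheme (f ∣_ V)
  haveI := hasRpush_scheme q
  haveI := hasRpush_scheme p
  haveI : DCoh.HasRpush (q ≫ p) := hqf.symm ▸ inferInstanceAs (DCoh.HasRpush (f ∣_ V))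
  obtain ⟨e⟩ := nonempty_rpush_restrictD_iso f V
  obtain ⟨ec⟩ := nonempty_rpush_comp q p
  have h := locPC_rpush_projSpaceOver r (V : Scheme.{u})
    ((DCoh.Rpush q).obj ((rho (f ⁻¹ᵁ V).ι).obj E))
    (fun m' => locPC_rpush_of_isIso q ((hE m').restrict (f ⁻¹ᵁ V).ι)) m
  have e₁ : (DCoh.Rpush (q ≫ p)).obj ((rho (f ⁻¹ᵁ V).ι).obj E) ≅
      (DCoh.Rpush (f ∣_ V)).obj ((rho (f ⁻¹ᵁ V).ι).obj E) := eqToIso (by simp only [f, p, hqf])
  exact h.of_iso (ec.app _ ≪≫ e₁ ≪≫ (e.app E).symm)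

/-- The derived direct image along `P^r_Y ⟶ Y` preserves perfect objects, for any base. -/
theorem isPerfect_rpush_projSpaceOver' (E : DCoh.D (CohB1.ProjSpaceOver r Y)) (hE : DCoh.IsPerfect E) :
    DCoh.IsPerfect ((DCoh.Rpush (CohB1.ProjSpaceOver.toBase r Y)).obj E) := by
  refine (isPerfect_iff _).2 (LocSP.of_local fun y => ?_)
  obtain ⟨V, hV, hyV⟩ : ∃ V : Y.Opens, IsAffineOpen V ∧ y ∈ V := by
    obtain ⟨_, ⟨V, hV, rfl⟩, hyV, -⟩ :=
      Y.isBasis_affineOpens.exists_subset_of_mem_open (Set.mem_univ y) isOpen_univ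
    exact ⟨V, hV, hyV⟩
  refine ⟨_, V.ι, inferInstance, ⟨⟨y, hyV⟩, rfl⟩, ?_⟩
  haveI : IsAffine (V : Scheme.{u}) := hV
  let f := CohB1.ProjSpaceOver.toBase r Y
  obtain ⟨q, hq, hqf⟩ := exists_iso_preimage r Y V
  let p := CohB1.ProjSpaceOver.toBase r (V : Scheme.{u})
  haveI := hasRpush_scheme (f ∣_ V)
  haveI := hasRpush_scheme q
  haveI := hasRpush_scheme p
  haveI : DCoh.HasRpush (q ≫ p) := hqf.symm ▸ inferInstanceAs (DCoh.HasRpush (f ∣_ V))
  obtain ⟨e⟩ := nonempty_rpush_restrictD_iso f V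
  obtain ⟨ec⟩ := nonempty_rpush_comp q p
  have h := (isPerfect_iff _).1 (isPerfect_rpush_projSpaceOver r (V : Scheme.{u})
    ((DCoh.Rpush q).obj ((rho (f ⁻¹ᵁ V).ι).obj E))
    ((isPerfect_iff _).2 (locSP_rpush_of_isIso q ((isPerfect_iff _).1 (isPerfect_rho (f ⁻¹ᵁ V).ι hE)))))
  have e₁ : (DCoh.Rpush (q ≫ p)).obj ((rho (f ⁻¹ᵁ V).ι).obj E) ≅
      (DCoh.Rpush (f ∣_ V)).obj ((rho (f ⁻¹ᵁ V).ι).obj E) := eqToIso (by simp only [f, p, hqf])
  exact h.of_iso (ec.app _ ≪≫ e₁ ≪≫ (e.app E).symm)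

end Groth.Agent.ProjPush
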