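import Groth.Agent.ProjPush.PushTwists
import Groth.Agent.KFlatLib.Scheme.RpushTriangle
import Groth.Agent.DQGen.Lift

/-!
# The derived direct image along a projective space preserves perfect objects
-/

set_option linter.style.haveILetI false
set_option backward.isDefEq.respectTransparency false
set_option backward.isDefEq.respectTransparency.types false
set_option synthInstance.maxHeartbeats 200000

universe u

open CategoryTheory CategoryTheory.Limits AlgebraicGeometry TopologicalSpace Opposite Pretriangulated ZeroObject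

attribute [local instance] HasDerivedCategory.standard

noncomputable section

namespace Groth.Agent.ProjPush

open Groth.Agent.KFlatLib Groth.Agent.DQGen

section Class

variable {X Y : Scheme.{u}} (f : X ⟶ Y) [DCoh.HasRpush f]

/-- Perfect objects with perfect derived direct image. -/
def PR : ObjectProperty (DCoh.D X) := fun E => DCoh.IsPerfect E ∧ DCoh.IsPerfect ((DCoh.Rpush f).obj E)

instance : (PR f).IsClosedUnderIsomorphisms where
  of_iso e h := ⟨DQGen.isPerfect_of_iso e h.1, DQGen.isPerfect_of_iso ((DCoh.Rpush f).mapIso e) h.2⟩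

lemma isPerfect_rpush_of_isZero {E : DCoh.D X} (h : IsZero E) :
    DCoh.IsPerfect ((DCoh.Rpush f).obj E) := by
  refine DQGen.isPerfect_of_isZero ?_
  haveI : ∀ a : ℤ, ((DCoh.Rpush f).obj E).IsGE a := fun a => by
    haveI : E.IsGE a := (DerivedCategory.isGE_iff E a).2 fun i _ => Functor.map_isZero _ h
    exact isGE_rpush f E a
  obtain ⟨e⟩ := nonempty_iso_inD (K := (DCoh.Rpush f).obj E) ⟨Iso.refl _⟩ fun i _ =>
    DerivedCategory.isZero_of_isGE _ (i + 1) i (by omega)
  exact (Functor.map_isZero _ (DerivedCategory.isZero_of_isGE _ 1 0 (by omega))).of_iso e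

instance : (PR f).IsTriangulated where
  exists_zero := ⟨0, isZero_zero _, DQGen.isPerfect_of_isZero (isZero_zero _),
    isPerfect_rpush_of_isZero f (isZero_zero _)⟩
  isStableUnderShiftBy n := ⟨fun K hK => by
    obtain ⟨e⟩ := nonempty_rpush_shift f K n
    exact ⟨(isPerfect_iff _).2 (((isPerfect_iff _).1 hK.1).shift n),
      DQGen.isPerfect_of_iso e.symm ((isPerfect_iff _).2 (((isPerfect_iff _).1 hK.2).shift n))⟩⟩
  toIsTriangulatedClosed₂ := .mk' fun T hT h₁ h₃ => by
    obtain ⟨c, hc⟩ := exists_rpush_triangle f T hT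
    exact ⟨(isPerfect_iff _).2 ((locSP_two_of_three T hT).2.1 ((isPerfect_iff _).1 h₁.1)
      ((isPerfect_iff _).1 h₃.1)), (isPerfect_iff _).2 ((locSP_two_of_three _ hc).2.1
        ((isPerfect_iff _).1 h₁.2) ((isPerfect_iff _).1 h₃.2))⟩

end Class

variable (r : ℕ) (Y : Scheme.{u}) [IsAffine Y]

local notation "π" => CohB1.ProjSpaceOver.toBase r Y

lemma compactSpace_projSpaceOver : CompactSpace (CohB1.ProjSpaceOver r Y) :=
  haveI := quasiCompact_toBase r Y
  QuasiCompact.compactSpace_of_compactSpace π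

omit [IsAffine Y] in
lemma isSeparated_toBase : IsSeparated π := by
  haveI := PnCoh.Chow.isProper_toSpec r (ULift.{u} ℤ)
  exact MorphismProperty.pullback_snd (P := @IsSeparated) _ _ inferInstance

lemma quasiSeparatedSpace_projSpaceOver : QuasiSeparatedSpace (CohB1.ProjSpaceOver r Y) :=
  haveI := quasiSeparated_toBase r Y
  quasiSeparatedSpace_of_quasiSeparated π

variable [DCoh.HasRpush (CohB1.ProjSpaceOver.toBase r Y)]

/-- The derived direct image along `P^r_Y ⟶ Y` preserves perfect objects. -/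
theorem isPerfect_rpush_projSpaceOver (E : DCoh.D (CohB1.ProjSpaceOver r Y)) (hE : DCoh.IsPerfect E) :
    DCoh.IsPerfect ((DCoh.Rpush π).obj E) := by
  haveI := compactSpace_projSpaceOver r Y
  haveI := quasiSeparatedSpace_projSpaceOver r Y
  haveI : IsAffineHom (specULiftZIsTerminal.from Y) := isAffineHom_of_isAffine _
  let g : CohB1.ProjSpaceOver r Y ⟶ CohB1.ProjSpace r (ULift.{u} ℤ) :=
    pullback.fst (CohB1.ProjSpace.toSpec r (ULift.{u} ℤ)) (specULiftZIsTerminal.from Y)
  haveI : IsAffineHom g := MorphismProperty.pullback_fst _ _ ‹_›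
  have hwin : ∀ a : ℤ, -(r : ℤ) ≤ a → a ≤ -(r : ℤ) + r → PR π (DCoh.inD _ (Tw g a)) := fun a h₁ h₂ =>
    ⟨isPerfect_inD (H23.PullPush.isFinLocFree_of_isInvertible (isInvertible_Tw g a)),
      isPerfect_rpush_twistOver r Y a h₁ (by omega)⟩
  have hall := mem_of_window g (PR π) (-(r : ℤ)) hwin
  let P : ObjectProperty (DCoh.D (CohB1.ProjSpaceOver r Y)) := PQ ⊥
  obtain ⟨R, ψ, h, hR, hψ⟩ := exists_factor P (PR π) (fun _ M => pq_sigma ⊥ M) (fun M => pq_sigma_nat ⊥ M)
    (fun c hc => (pq_bot_iff c).2 (isQCohD_of_isPerfect hc.1)) (fun c hc => compactIn_of_isPerfect ⊥ hc.1)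
    (fun i : ULift.{u} (ℕ × ℤ) => (DCoh.inD _ (Tw g (-(i.down.1 : ℤ))))⟦i.down.2⟧)
    (fun i => (PR π).le_shift _ _ (hall _))
    (fun F hF h => isZero_of_twists_neg g ((pq_bot_iff F).1 hF) fun d m φ => h ⟨(d, m)⟩ φ)
    (F := 𝟭 _) (compactIn_of_isPerfect ⊥ hE) ((pq_bot_iff E).2 (isQCohD_of_isPerfect hE)) (𝟙 E)
  haveI : CompactSpace Y := inferInstance
  exact isPerfect_of_retract ((DCoh.Rpush π).map ψ) ((DCoh.Rpush π).map h)
    (by rw [← Functor.map_comp]; exact (congrArg (DCoh.Rpush π).map hψ.symm).trans (CategoryTheory.Functor.map_id _ _)) hR.2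

end Groth.Agent.ProjPush
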