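import Groth.Agent.ProjPush.TwistLift
import Groth.Agent.ProjPush.PCBack

/-!
# Serre vanishing for pseudo-coherent objects
-/

set_option linter.style.haveILetI false
set_option backward.isDefEq.respectTransparency false
set_option backward.isDefEq.respectTransparency.types false
set_option synthInstance.maxHeartbeats 200000

universe u

open CategoryTheory CategoryTheory.Limits AlgebraicGeometry Pretriangulated TopologicalSpace Opposite

attribute [local instance] HasDerivedCategory.standard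

noncomputable section

namespace Groth.Agent.ProjPush

open Groth.Agent.KFlatLib Groth.Agent.DQGen AmpleVan

variable {n : ℕ} {A : Type u} [CommRing A] {Z : Scheme.{u}} (g : Z ⟶ CohB1.ProjSpace n A)
  {Y : Scheme.{u}} (π : Z ⟶ Y) [IsAffine Y] [QuasiCompact π] [QuasiSeparated π] [DCoh.HasRpush π]

/-- Eventually, twisting kills the cohomology of the direct image above `a`. -/
def EvLE (a : ℤ) (K : DCoh.D Z) : Prop :=
  ∃ N : ℤ, ∀ e, N ≤ e → ∀ i, a < i → IsZero (DCoh.HD ((DCoh.Rpush π).obj ((W g e).obj K)) i)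

lemma isLE_W (e : ℤ) {K : DCoh.D Z} (b : ℤ) [K.IsLE b] : ((W g e).obj K).IsLE b :=
  (DerivedCategory.isLE_iff _ b).2 fun i hi =>
    ((tw (Tw g e)).map_isZero (DerivedCategory.isZero_of_isLE K b i hi)).of_iso (hIso (tw (Tw g e)) i K)

lemma unit_hom_eq_zero {V : Scheme.{u}} [IsAffine V] {L : DCoh.D V} (hL : DCoh.IsQCohD L)
    (hz : IsZero (DCoh.HD L 0)) (φ : DCoh.inD V (Coh.structureModule V) ⟶ L) : φ = 0 := by
  obtain ⟨eO⟩ := nonempty_secObj_top V
  rw [← cancel_epi ((DerivedCategory.singleFunctor V.Modules 0).map eO.inv), comp_zero]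
  exact unit_hom_eq_zero_of_isZero_hd hL hz _

/-- Lifting through a shifted triangle. -/
lemma exists_lift_shift {C D : Type*} [Category C] [Category D] [HasZeroObject C] [HasShift C ℤ] [Preadditive C]
    [∀ n : ℤ, (shiftFunctor C n).Additive] [Pretriangulated C] [HasZeroObject D] [HasShift D ℤ] [Preadditive D]
    [∀ n : ℤ, (shiftFunctor D n).Additive] [Pretriangulated D] (G : C ⥤ D) [G.CommShift ℤ] [G.IsTriangulated]
    {X₁ X₂ X₃ : C} {u : X₁ ⟶ X₂} {v : X₂ ⟶ X₃} {w : X₃ ⟶ X₁⟦(1 : ℤ)⟧} (hT : Triangle.mk u v w ∈ distTriang C)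
    (b : ℤ) {O : D} (χ : O ⟶ (G.obj X₃)⟦b⟧) (hχ : χ ≫ (G.map w)⟦b⟧' = 0) :
    ∃ χ₀ : O ⟶ (G.obj X₂)⟦b⟧, χ = χ₀ ≫ (G.map v)⟦b⟧' := by
  let e := shiftFunctorCompIsoId D b (-b) (by omega)
  let χ' : O⟦-b⟧ ⟶ G.obj X₃ := χ⟦-b⟧' ≫ e.hom.app _
  have h' : χ' ≫ G.map w = 0 := by
    have hn := e.hom.naturality (G.map w)
    simp only [Functor.id_map, Functor.comp_map] at hn
    simp only [χ', Category.assoc]
    rw [← hn, ← Category.assoc, ← Functor.map_comp, hχ, Functor.map_zero, zero_comp]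
  have h'' : χ' ≫ ((G.mapTriangle.obj (Triangle.mk u v w)).mor₃) = 0 := by
    show χ' ≫ G.map w ≫ _ = 0
    rw [← Category.assoc, h', zero_comp]
  obtain ⟨x, hx⟩ : ∃ x : O⟦-b⟧ ⟶ G.obj X₂, χ' = x ≫ G.map v :=
    Triangle.coyoneda_exact₃ _ (G.map_distinguished _ hT) χ' h''
  let e' := shiftFunctorCompIsoId D (-b) b (by omega)
  refine ⟨e'.inv.app O ≫ x⟦b⟧', ?_⟩
  rw [Category.assoc, ← Functor.map_comp, ← hx]
  have hn := e'.inv.naturality χ
  simp only [Functor.id_map, Functor.comp_map, Functor.id_obj, Functor.comp_obj] at hn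
  simp only [χ', Functor.map_comp, ← Category.assoc]
  rw [← hn, Category.assoc]
  simp only [e, e', shift_shiftFunctorCompIsoId_hom_app, Iso.inv_hom_id_app, Functor.id_obj,
    Category.comp_id]

theorem evLE_of_list [IsAffineHom g] [QuasiSeparatedSpace Z] (hvan : VanTw g π) (a b : ℤ) (hba : b ≤ a)
    {κ : Type} (U : κ → Z.Opens) (hU : ∀ i, IsAffineOpen (U i)) (hcov : ∀ z, ∃ i, z ∈ U i)
    (hrec : ∀ K : DCoh.D Z, (∀ m, LocPC m K) → (∀ i, b - 1 < i → IsZero (DCoh.HD K i)) → EvLE g π a K) :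
    ∀ (N : ℕ) (K : DCoh.D Z) (L : List (Σ d : ℕ, (DCoh.inD Z (Tw g (-(d : ℤ))))⟦-b⟧ ⟶ K)),
      L.length = N → (∀ m, LocPC m K) → (∀ i, b < i → IsZero (DCoh.HD K i)) →
      (∀ {K' : DCoh.D Z}, DCoh.IsQCohD K' → ∀ f : K ⟶ K', (∀ p ∈ L, p.2 ≫ f = 0) →
        ∀ (i : κ) (ψ : DCoh.inD _ (Coh.structureModule (U i).toScheme) ⟶ ((rho (U i).ι).obj K)⟦b⟧),
          ψ ≫ ((rho (U i).ι).map f)⟦b⟧' = 0) → EvLE g π a K := by
  intro N
  induction N with
  | zero =>
    intro K L hL hpc hz hgen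
    refine hrec K hpc fun i hi => ?_
    rcases eq_or_lt_of_le (show b ≤ i by omega) with rfl | h
    · refine isZero_of_isZero_restrict _ fun z => ?_
      obtain ⟨j, hj⟩ := hcov z
      refine ⟨U j, hj, ?_⟩
      haveI : IsAffine (U j).toScheme := hU j
      refine IsZero.of_iso ?_ (restrictHDIso (U j).ι K b).symm
      refine isZero_hd_of_affine (isQCohD_rho _ (isQCohD_of_locPC hpc)) b fun φ => ?_
      have := hgen (isQCohD_of_locPC hpc) (𝟙 K)
        (fun p hp => by simp [List.length_eq_zero_iff.1 hL] at hp) j φ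
      rwa [CategoryTheory.Functor.map_id, CategoryTheory.Functor.map_id, Category.comp_id] at this
    · exact hz i h
  | succ N ih =>
    intro K L hL hpc hz hgen
    obtain ⟨⟨d₀, α⟩, L', rfl⟩ : ∃ p L', L = p :: L' := List.exists_cons_of_length_eq_add_one hL
    let T₀ := DCoh.inD Z (Tw g (-(d₀ : ℤ)))
    let P := T₀⟦-b⟧
    obtain ⟨K', f, c, hT⟩ := distinguished_cocone_triangle (α : P ⟶ K)
    have hT₀ : DCoh.IsPerfect T₀ :=
      isPerfect_inD (H23.PullPush.isFinLocFree_of_isInvertible (isInvertible_Tw g _))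
    have hP : DCoh.IsPerfect P := (isPerfect_iff _).2 (((isPerfect_iff _).1 hT₀).shift _)
    have hqP : DCoh.IsQCohD P := isQCohD_of_isPerfect hP
    have hpc' : ∀ m, LocPC m K' := fun m =>
      (locPC_two_of_three m _ hT).1 (((isPerfect_iff _).1 hP).locPC _) (hpc m)
    have hzP : ∀ i, b < i → IsZero (DCoh.HD P i) := fun i hi => by
      haveI : (DerivedCategory.TStructure.t).IsLE P b :=
        DerivedCategory.TStructure.t.isLE_shift T₀ 0 (-b) b (by omega)
      haveI : P.IsLE b := ‹_›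
      exact DerivedCategory.isZero_of_isLE P b i hi
    have hz' : ∀ i, b < i → IsZero (DCoh.HD K' i) := fun i hi =>
      (DerivedCategory.HomologySequence.exact₃ _ hT i (i + 1) rfl).isZero_X₂
        ((hz i hi).eq_of_src _ _) ((hzP (i + 1) (by omega)).eq_of_tgt _ _)
    obtain ⟨N', hN'⟩ := ih K' (L'.map fun p => ⟨p.1, p.2 ≫ f⟩) (by simpa using hL) hpc' hz'
      fun {K''} hK'' h hh j ψ => by
        haveI : IsAffine (U j).toScheme := hU j
        let F := rho (U j).ι ⋙ shiftFunctor (DCoh.D (U j).toScheme) b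
        have hlift : ψ ≫ F.map c = 0 := by
          refine unit_hom_eq_zero (isQCohD_shift (isQCohD_rho _ (isQCohD_shift hqP 1)) b) ?_ _
          exact ((Scheme.Modules.restrictFunctor (U j).ι).map_isZero ((hzP (b + 1) (by omega)).of_iso
            (((DerivedCategory.homologyFunctor Z.Modules 0).shiftIso 1 b (b + 1) (by omega)).app P))).of_iso
            (((DerivedCategory.homologyFunctor (U j).toScheme.Modules 0).shiftIso b 0 b (add_zero b)).app _ ≪≫
              restrictHDIso (U j).ι (P⟦(1 : ℤ)⟧) b)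
        obtain ⟨ψ₀, hψ₀⟩ : ∃ ψ₀, ψ = ψ₀ ≫ F.map f :=
          exists_lift_shift (rho (U j).ι) hT b ψ hlift
        rw [hψ₀]
        have := hgen hK'' (f ≫ h) (fun p hp => by
          rcases List.mem_cons.1 hp with rfl | hp
          · show α ≫ f ≫ h = 0
            rw [← Category.assoc]
            exact (congrArg (· ≫ h) (comp_distTriang_mor_zero₁₂ _ hT)).trans zero_comp
          · rw [← Category.assoc]
            exact hh ⟨p.1, p.2 ≫ f⟩ (List.mem_map.2 ⟨p, hp, rfl⟩)) j ψ₀
        simp only [F, Functor.comp_map, Functor.map_comp] at this ⊢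
        rw [Category.assoc]
        exact this
    refine ⟨max N' d₀, fun e he i hi => ?_⟩
    obtain ⟨c', hc'⟩ := exists_rpush_triangle π _ ((W g e).map_distinguished _ hT)
    refine (DerivedCategory.HomologySequence.exact₂ _ hc' i).isZero_X₂ (IsZero.eq_of_src ?_ _ _)
      ((hN' e (by omega) i hi).eq_of_tgt _ _)
    obtain ⟨u⟩ := nonempty_rpush_W_obj g π e d₀ (-b)
    exact (hvan (-(d₀ : ℤ) + e) (i - b) (by omega) (by omega)).of_iso
      ((DerivedCategory.homologyFunctor Y.Modules i).mapIso u ≪≫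
        ((DerivedCategory.homologyFunctor Y.Modules 0).shiftIso (-b) i (i - b) (by omega)).app _)

/-- **Serre vanishing**: twisting a pseudo-coherent object enough, the direct image is no higher than it. -/
theorem evLE_of_locPC [IsAffineHom g] [QuasiSeparatedSpace Z] (hvan : VanTw g π) (c : ℕ)
    (hcd : ∀ (K : DCoh.D Z), DCoh.IsQCohD K → ∀ b : ℤ, K.IsLE b → ∀ i : ℤ, b + c ≤ i →
      IsZero (DCoh.HD ((DCoh.Rpush π).obj K) i))
    (a : ℤ) {K : DCoh.D Z} (hpc : ∀ m, LocPC m K) [K.IsLE a] : EvLE g π a K := by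
  have main : ∀ (k : ℕ) (b : ℤ), b ≤ a → (c : ℤ) ≤ a - b + k → ∀ K : DCoh.D Z, (∀ m, LocPC m K) →
      (∀ i, b < i → IsZero (DCoh.HD K i)) → EvLE g π a K := by
    intro k
    induction k with
    | zero =>
      intro b hba hc K hpc hz
      haveI : K.IsLE b := (DerivedCategory.isLE_iff K b).2 hz
      exact ⟨0, fun e _ i hi => hcd _ (isQCohD_W g e (isQCohD_of_locPC hpc)) b (isLE_W g e b) i
        (by push_cast at hc; omega)⟩
    | succ k ih =>
      intro b hba hc K hpc hz
      obtain ⟨κ, U, L, hU, hcov, hgen⟩ := exists_twist_gens_hd g (isQCohD_of_locPC hpc) b (isFT_top (hpc b) hz)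
      exact evLE_of_list g π hvan a b hba U hU hcov
        (fun K' hpc' hz' => ih (b - 1) (by omega) (by push_cast at hc; omega) K' hpc' hz') L.length K L rfl
        hpc hz hgen
  exact main c a le_rfl (by omega) K hpc fun i hi => DerivedCategory.isZero_of_isLE K a i hi

end Groth.Agent.ProjPush
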