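import Groth.Agent.ProjPush.DetectMain
import Groth.Agent.QCoh.FT
import Groth.Agent.KFlatLib.Scheme.DQCohLimit

/-!
# Maps out of the structure sheaf on an affine scheme
-/

set_option linter.style.haveILetI false
set_option backward.isDefEq.respectTransparency false
set_option backward.isDefEq.respectTransparency.types false

universe u

open CategoryTheory CategoryTheory.Limits AlgebraicGeometry Pretriangulated TopologicalSpace Opposite

attribute [local instance] HasDerivedCategory.standard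

noncomputable section

namespace Groth.Agent.ProjPush

open Groth.Agent.KFlatLib

variable {Y : Scheme.{u}} [IsAffine Y]

/-- `O` on an affine scheme, as it represents sections. -/
abbrev unitObj (Y : Scheme.{u}) : DCoh.D Y := DCoh.inD Y (secObj (⊤ : Y.Opens))

lemma unit_hom_eq_zero_of_isZero_hd {L : DCoh.D Y} (hL : DCoh.IsQCohD L) (hz : IsZero (DCoh.HD L 0))
    (φ : unitObj Y ⟶ L) : φ = 0 :=
  (bijH0_of_isQCohD hL (isAffineOpen_top Y)).1 (hz.eq_of_tgt _ _)

lemma exists_module_gens {M : Y.Modules} (hM : Coh.IsQCoh M) (hft : CohB1.IsFT M) :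
    ∃ (N : ℕ) (s : Fin N → (Coh.structureModule Y ⟶ M)), ∀ {M' : Y.Modules} (g : M ⟶ M'),
      (∀ j, s j ≫ g = 0) → ∀ t : Coh.structureModule Y ⟶ M, t ≫ g = 0 := by
  haveI := QCoh.finite_of_isFT hM hft (isAffineOpen_top Y)
  obtain ⟨N, v, hv⟩ := Module.Finite.exists_fin (R := Γ(Y, ⊤)) (M := Γ(M, ⊤))
  refine ⟨N, fun j => InvX.ofSect (v j), fun {M'} g hg t => one_injective ?_⟩
  show g.app ⊤ (InvX.one t) = InvX.one (0 : Coh.structureModule Y ⟶ M')
  have h0 : InvX.one (0 : Coh.structureModule Y ⟶ M') = 0 := by simp [InvX.one]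
  have hzero : ∀ x : Γ(M, ⊤), g.app ⊤ x = 0 := fun x => by
    have hx : x ∈ Submodule.span Γ(Y, ⊤) (Set.range v) := by rw [hv]; trivial
    induction hx using Submodule.span_induction with
    | mem x hx =>
      obtain ⟨j, rfl⟩ := hx
      rw [← InvX.one_ofSect (v j)]
      exact (congrArg InvX.one (hg j)).trans h0
    | zero => exact map_zero _
    | add x y _ _ hx hy => rw [map_add, hx, hy, add_zero]
    | smul r x _ hx => exact (Scheme.Modules.Hom.app_smul g r x).trans (by rw [hx, smul_zero])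
  rw [hzero, h0]

/-- Finitely many maps out of `O` cover all maps onto a finite type `H⁰`. -/
theorem exists_top_gens {L : DCoh.D Y} (hL : DCoh.IsQCohD L) (hft : CohB1.IsFT (DCoh.HD L 0)) :
    ∃ (N : ℕ) (α : Fin N → (unitObj Y ⟶ L)), ∀ {L' : DCoh.D Y}, DCoh.IsQCohD L' → ∀ f : L ⟶ L',
      (∀ j, α j ≫ f = 0) → ∀ φ : unitObj Y ⟶ L, φ ≫ f = 0 := by
  obtain ⟨eO⟩ := nonempty_secObj_top Y
  obtain ⟨N, s, hs⟩ := exists_module_gens (hL 0) hft
  have hb := bijH0_of_isQCohD hL (isAffineOpen_top Y)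
  choose α hα using fun j => hb.2 (eO.inv ≫ s j)
  refine ⟨N, α, fun {L'} hL' f hf φ => (bijH0_of_isQCohD hL' (isAffineOpen_top Y)).1 ?_⟩
  rw [psi_comp, psi_zero]
  have h := hs ((DerivedCategory.homologyFunctor Y.Modules 0).map f) (fun j => ?_) (eO.hom ≫ psi _ L φ)
  · rw [Category.assoc] at h
    rwa [← cancel_epi eO.hom, comp_zero]
  · have := congrArg (psi (⊤ : Y.Opens) L') (hf j)
    rw [psi_comp, hα, psi_zero, Category.assoc] at this
    rwa [← cancel_epi eO.inv, comp_zero]

end Groth.Agent.ProjPush
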