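import Groth.Agent.ProjPush.TopGens
import Groth.Agent.ProjPush.TwistApply
import Groth.Agent.KFlatLib.Scheme.RpushUnbounded
import Groth.Agent.KFlatLib.Scheme.Adjoint
import Groth.Agent.KFlatLib.Scheme.PullTensorCx
import Groth.Agent.CohBasic.EulerBC

/-!
# Hypercohomology of twists through the direct image
-/

set_option linter.style.haveILetI false
set_option backward.isDefEq.respectTransparency false
set_option backward.isDefEq.respectTransparency.types false
set_option synthInstance.maxHeartbeats 200000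

universe u

open CategoryTheory CategoryTheory.Limits AlgebraicGeometry Pretriangulated TopologicalSpace Opposite

attribute [local instance] HasDerivedCategory.standard

noncomputable section

namespace Groth.Agent.ProjPush

open Groth.Agent.KFlatLib Groth.Agent.DQGen AmpleVan Groth.Agent.H23.PicMul

section Unit

variable {Z Y : Scheme.{u}} (π : Z ⟶ Y)

lemma nonempty_lpull_unitObj [IsAffine Y] [DCoh.HasLpull π] :
    Nonempty ((DCoh.Lpull π).obj (unitObj Y) ≅ DCoh.inD Z (Coh.structureModule Z)) := by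
  obtain ⟨eO⟩ := nonempty_secObj_top Y
  obtain ⟨s⟩ := PicClLib.nonempty_pullback_structureModule π
  let sY := HomologicalComplex.single Y.Modules (ComplexShape.up ℤ) 0
  have hv : DCoh.VanishesOutside (sY.obj (Coh.structureModule Y)) 0 0 := fun i hi =>
    HomologicalComplex.isZero_single_obj_X (ComplexShape.up ℤ) 0 _ i (by omega)
  have hk : DCoh.IsKFlat (sY.obj (Coh.structureModule Y)) := by
    refine isKFlat_of_vanishesOutside hv fun i => isFlat_of_isFinLocFree ?_
    rcases eq_or_ne i 0 with h | h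
    · subst h
      exact H23.PullPush.isFinLocFree_of_iso (HomologicalComplex.singleObjXSelf (ComplexShape.up ℤ) 0 _).symm
        (H23.PullPush.isFinLocFree_of_isInvertible InvX.isInvertible_structureModule)
    · exact isFinLocFree_of_isZero (HomologicalComplex.isZero_single_obj_X (ComplexShape.up ℤ) 0 _ i h)
  exact ⟨(DCoh.Lpull π).mapIso ((DerivedCategory.singleFunctor Y.Modules 0).mapIso eO.symm ≪≫
      (DerivedCategory.singleFunctorIsoCompQ Y.Modules 0).app _) ≪≫ lpullIso π hk ≪≫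
    DerivedCategory.Q.mapIso ((HomologicalComplex.singleMapHomologicalComplex (Scheme.Modules.pullback π)
      (ComplexShape.up ℤ) 0).app _) ≪≫
    ((DerivedCategory.singleFunctorIsoCompQ Z.Modules 0).app _).symm ≪≫
    (DerivedCategory.singleFunctor Z.Modules 0).mapIso s⟩

variable [IsAffine Y] [QuasiCompact π] [QuasiSeparated π] [DCoh.HasRpush π]

/-- Without `H⁰` downstairs there are no maps out of the structure sheaf. -/
lemma hom_eq_zero_of_isZero_hd_rpush {L : DCoh.D Z} (hL : DCoh.IsQCohD L)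
    (hz : IsZero (DCoh.HD ((DCoh.Rpush π).obj L) 0))
    (φ : DCoh.inD Z (Coh.structureModule Z) ⟶ L) : φ = 0 := by
  haveI := hasInjectiveResolutions_modules (X := Z)
  haveI := hasLpull π
  obtain ⟨a⟩ := nonempty_lpull_rpush_adj π
  obtain ⟨e⟩ := nonempty_lpull_unitObj π
  have h : ∀ χ : (DCoh.Lpull π).obj (unitObj Y) ⟶ L, χ = 0 := fun χ => (a.homEquiv _ _).injective
    ((unit_hom_eq_zero_of_isZero_hd (isQCohD_rpush π hL) hz _).trans
      (unit_hom_eq_zero_of_isZero_hd (isQCohD_rpush π hL) hz _).symm)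
  rw [← cancel_epi e.hom, comp_zero]
  exact h _

/-- A finite type `H⁰` downstairs gives finitely many generating maps upstairs. -/
lemma exists_gens_of_rpush {L : DCoh.D Z} (hL : DCoh.IsQCohD L)
    (hft : CohB1.IsFT (DCoh.HD ((DCoh.Rpush π).obj L) 0)) :
    ∃ (N : ℕ) (α : Fin N → (DCoh.inD Z (Coh.structureModule Z) ⟶ L)), ∀ {L' : DCoh.D Z},
      DCoh.IsQCohD L' → ∀ f : L ⟶ L', (∀ j, α j ≫ f = 0) →
        ∀ φ : DCoh.inD Z (Coh.structureModule Z) ⟶ L, φ ≫ f = 0 := by
  haveI := hasInjectiveResolutions_modules (X := Z)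
  haveI := hasLpull π
  obtain ⟨a⟩ := nonempty_lpull_rpush_adj π
  obtain ⟨e⟩ := nonempty_lpull_unitObj π
  haveI : PreservesLimitsOfSize.{0, 0} (DCoh.Rpush π) := a.rightAdjoint_preservesLimits
  haveI : (DCoh.Rpush π).Additive := Functor.additive_of_preserves_binary_products _
  obtain ⟨N, β, hβ⟩ := exists_top_gens (isQCohD_rpush π hL) hft
  refine ⟨N, fun j => e.inv ≫ (a.homEquiv _ _).symm (β j), fun {L'} hL' f hf φ => ?_⟩
  have h : a.homEquiv _ _ ((e.hom ≫ φ) ≫ f) = 0 := by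
    rw [Adjunction.homEquiv_naturality_right]
    refine hβ (isQCohD_rpush π hL') _ (fun j => ?_) _
    have hj : (a.homEquiv _ _).symm (β j) ≫ f = 0 := by
      have := hf j
      rwa [Category.assoc, ← cancel_epi e.hom, Iso.hom_inv_id_assoc, comp_zero] at this
    have := congrArg (a.homEquiv (unitObj Y) L') hj
    rw [Adjunction.homEquiv_naturality_right, Equiv.apply_symm_apply] at this
    rw [this]
    simp [Adjunction.homEquiv_unit]
  have h0 : (e.hom ≫ φ) ≫ f = 0 := (a.homEquiv _ _).injective (h.trans (by simp [Adjunction.homEquiv_unit]))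
  rw [← cancel_epi e.hom, comp_zero, ← Category.assoc]
  exact h0

end Unit

section Twist

variable {n : ℕ} {A : Type u} [CommRing A] {Z : Scheme.{u}} (g : Z ⟶ CohB1.ProjSpace n A)

instance isEquivalence_twTw (d : ℤ) : (tw (Tw g d)).IsEquivalence := isEquivalence_tw (isInvertible_Tw g d)

instance additive_twTw (d : ℤ) : (tw (Tw g d)).Additive := Functor.additive_of_preserves_binary_products _

/-- Twisting on the derived category. -/
abbrev W (d : ℤ) : DCoh.D Z ⥤ DCoh.D Z := (tw (Tw g d)).mapDerivedCategory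

lemma nonempty_tw_comp (d e : ℤ) (h : d + e = 0) : Nonempty (tw (Tw g d) ⋙ tw (Tw g e) ≅ 𝟭 Z.Modules) := by
  obtain ⟨i⟩ : Nonempty ((tw (Tw g e)).obj (Tw g d) ≅ Coh.structureModule Z) := by
    refine cl_eq_iff.1 ?_
    show PicF.cl (CohB1.tensorMod (Tw g d) (Tw g e)) = _
    rw [cl_tensor, ← cl_Tw_add, h, cl_Tw_zero]
    rfl
  exact ⟨twComp _ _ ≪≫ (DCoh.tensorBi (X := Z)).flip.mapIso i ≪≫ twUnit⟩

instance isEquivalence_W (d : ℤ) : (W g d).IsEquivalence := by
  obtain ⟨e₁⟩ := nonempty_tw_comp g d (-d) (by omega)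
  obtain ⟨e₂⟩ := nonempty_tw_comp g (-d) d (by omega)
  obtain ⟨E₁⟩ := nonempty_mapD_comp (tw (Tw g d)) (tw (Tw g (-d))) e₁
  obtain ⟨E₂⟩ := nonempty_mapD_comp (tw (Tw g (-d))) (tw (Tw g d)) e₂
  exact (CategoryTheory.Equivalence.mk (W g d) (W g (-d)) E₁.symm E₂).isEquivalence_functor

lemma isQCohD_W (d : ℤ) {K : DCoh.D Z} (hK : DCoh.IsQCohD K) : DCoh.IsQCohD ((W g d).obj K) := fun q =>
  isQCoh_of_iso (hIso (tw (Tw g d)) q K).symm
    (CohBasic.isQCoh_tensorMod (hK q)
      (QCoh.isQCoh_of_isFinLocFree (H23.PullPush.isFinLocFree_of_isInvertible (isInvertible_Tw g d))))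

lemma nonempty_W_twist (d d' : ℤ) :
    Nonempty ((W g d).obj (DCoh.inD Z (Tw g d')) ≅ DCoh.inD Z (Tw g (d' + d))) := by
  obtain ⟨i⟩ : Nonempty ((tw (Tw g d)).obj (Tw g d') ≅ Tw g (d' + d)) := by
    refine cl_eq_iff.1 ?_
    show PicF.cl (CohB1.tensorMod (Tw g d') (Tw g d)) = _
    rw [cl_tensor, ← cl_Tw_add]
  exact ⟨((tw (Tw g d)).mapDerivedCategorySingleFunctor 0).app _ ≪≫
    (DerivedCategory.singleFunctor Z.Modules 0).mapIso i⟩

/-- Twisting by `d` and shifting by `i`. -/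
abbrev WS (d i : ℤ) : DCoh.D Z ⥤ DCoh.D Z := W g d ⋙ shiftFunctor (DCoh.D Z) i

lemma nonempty_WS_unit (d i : ℤ) :
    Nonempty ((WS g d i).obj ((DCoh.inD Z (Tw g (-d)))⟦-i⟧) ≅ DCoh.inD Z (Coh.structureModule Z)) := by
  obtain ⟨e⟩ := nonempty_W_twist g d (-d)
  obtain ⟨u⟩ : Nonempty (Tw g (-d + d) ≅ Coh.structureModule Z) := by
    refine cl_eq_iff.1 ?_
    rw [neg_add_cancel, cl_Tw_zero]
    rfl
  exact ⟨(shiftFunctor _ i).mapIso (((W g d).commShiftIso (-i)).app _) ≪≫
    (shiftFunctorCompIsoId (DCoh.D Z) (-i) i (by simp)).app _ ≪≫ e ≪≫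
    (DerivedCategory.singleFunctor Z.Modules 0).mapIso u⟩

variable {Y : Scheme.{u}} (π : Z ⟶ Y) [IsAffine Y] [QuasiCompact π] [QuasiSeparated π] [DCoh.HasRpush π]

lemma nonempty_hd_rpush_WS (d i : ℤ) (K : DCoh.D Z) :
    Nonempty (DCoh.HD ((DCoh.Rpush π).obj ((WS g d i).obj K)) 0 ≅ DCoh.HD ((DCoh.Rpush π).obj ((W g d).obj K)) i) := by
  obtain ⟨e⟩ := nonempty_rpush_shift π ((W g d).obj K) i
  exact ⟨(DerivedCategory.homologyFunctor Y.Modules 0).mapIso e ≪≫
    ((DerivedCategory.homologyFunctor Y.Modules 0).shiftIso i 0 i (add_zero i)).app _⟩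

/-- No maps from a twist where the direct image has no cohomology. -/
lemma twist_hom_eq_zero (d i : ℤ) {K : DCoh.D Z} (hK : DCoh.IsQCohD K)
    (hz : IsZero (DCoh.HD ((DCoh.Rpush π).obj ((W g d).obj K)) i))
    (φ : (DCoh.inD Z (Tw g (-d)))⟦-i⟧ ⟶ K) : φ = 0 := by
  obtain ⟨u⟩ := nonempty_WS_unit g d i
  obtain ⟨e⟩ := nonempty_hd_rpush_WS g π d i K
  refine (WS g d i).map_injective ?_
  rw [Functor.map_zero, ← cancel_epi u.inv, comp_zero]
  exact hom_eq_zero_of_isZero_hd_rpush π (isQCohD_shift (isQCohD_W g d hK) i) (hz.of_iso e) _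

/-- Generating maps from a twist where the direct image has cohomology of finite type. -/
lemma exists_twist_gens (d i : ℤ) {K : DCoh.D Z} (hK : DCoh.IsQCohD K)
    (hft : CohB1.IsFT (DCoh.HD ((DCoh.Rpush π).obj ((W g d).obj K)) i)) :
    ∃ (N : ℕ) (α : Fin N → ((DCoh.inD Z (Tw g (-d)))⟦-i⟧ ⟶ K)), ∀ {K' : DCoh.D Z},
      DCoh.IsQCohD K' → ∀ f : K ⟶ K', (∀ j, α j ≫ f = 0) →
        ∀ φ : (DCoh.inD Z (Tw g (-d)))⟦-i⟧ ⟶ K, φ ≫ f = 0 := by
  obtain ⟨u⟩ := nonempty_WS_unit g d i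
  obtain ⟨e⟩ := nonempty_hd_rpush_WS g π d i K
  obtain ⟨N, β, hβ⟩ := exists_gens_of_rpush π (isQCohD_shift (isQCohD_W g d hK) i)
    (isFT_of_iso' e.symm hft)
  choose α hα using fun j => (WS g d i).map_surjective (u.hom ≫ β j)
  refine ⟨N, α, fun {K'} hK' f hf φ => ?_⟩
  refine (WS g d i).map_injective ?_
  rw [Functor.map_zero, ← cancel_epi u.inv, comp_zero, Functor.map_comp, ← Category.assoc]
  refine hβ (isQCohD_shift (isQCohD_W g d hK') i) _ (fun j => ?_) _
  have := congrArg (WS g d i).map (hf j)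
  rw [Functor.map_comp, hα, Functor.map_zero, Category.assoc] at this
  rwa [← cancel_epi u.hom, comp_zero]

end Twist

end Groth.Agent.ProjPush
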