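import Groth.Agent.ProjPush.DetectDeg
import Groth.Agent.ProjPush.TopGens
import Groth.Agent.QCoh.RpushStalk
import Groth.Agent.KFlatLib.Scheme.TildePC

/-!
# Sections over affine generating loci lift to maps out of negative twists
-/

set_option linter.style.haveILetI false
set_option backward.isDefEq.respectTransparency false
set_option backward.isDefEq.respectTransparency.types false

universe u

open CategoryTheory CategoryTheory.Limits AlgebraicGeometry Pretriangulated TopologicalSpace Opposite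

attribute [local instance] HasDerivedCategory.standard

noncomputable section

namespace Groth.Agent.ProjPush

open Groth.Agent.KFlatLib Groth.Agent.DQGen AmpleVan Groth.Agent.H23.PicMul

variable {X : Scheme.{u}}

/-- A section over an affine generating locus lifts after twisting. -/
theorem exists_twist_lift [CompactSpace X] [QuasiSeparatedSpace X] {L : X.Modules}
    [∀ n, (itw L n).IsEquivalence] [∀ n, (itw L n).Additive] (hL : PicF.IsInvertible L)
    (s : Coh.structureModule X ⟶ L) (haff : IsAffineOpen (CohB1.genLocus L s)) {K : DCoh.D X}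
    (hK : DCoh.IsQCohD K) (m : ℤ)
    (ψ : DCoh.inD _ (Coh.structureModule (CohB1.genLocus L s).toScheme) ⟶
      ((rho (CohB1.genLocus L s).ι).obj K)⟦m⟧) :
    ∃ (n : ℕ) (x : (DCoh.inD X (Coh.structureModule X))⟦-m⟧ ⟶ (twD L n).obj K),
      ∀ {K' : DCoh.D X}, DCoh.IsQCohD K' → ∀ f : K ⟶ K', x ≫ (twD L n).map f = 0 →
        ψ ≫ ((rho (CohB1.genLocus L s).ι).map f)⟦m⟧' = 0 := by
  let V := CohB1.genLocus L s
  let j := V.ι
  haveI : IsAffine V.toScheme := haff
  haveI : QuasiCompact j := by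
    haveI := InvX.isAffineHom_genLocus_ι hL s
    infer_instance
  let O := DCoh.inD X (Coh.structureModule X)
  let P := O⟦-m⟧
  obtain ⟨C, b, c, hT⟩ := distinguished_cocone_triangle ((adj j).unit.app K)
  have hR : DCoh.IsQCohD ((DCoh.Rpush j).obj ((rho j).obj K)) := isQCohD_rpush j (isQCohD_rho j hK)
  have hC : DCoh.IsQCohD C := isQCohD_obj₃ hT hK hR
  have hP : DCoh.IsPerfect P :=
    ((PP (⊥ : X.Opens)).le_shift (-m) _ ⟨S7279.isPerfect_structure X, isZero_rho_bot _⟩).1
  let ψ' : (rho j).obj P ⟶ (rho j).obj K :=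
    ((rho j).commShiftIso (-m)).hom.app O ≫ ((rhoStructureIso j).hom ≫ ψ)⟦-m⟧' ≫
      (shiftFunctorCompIsoId (DCoh.D V.toScheme) m (-m) (by simp)).hom.app _
  let t : P ⟶ (DCoh.Rpush j).obj ((rho j).obj K) := (adj j).homEquiv _ _ ψ'
  obtain ⟨n, hn⟩ := exists_pw_kill hL s hP hC (isZero_rho_cone_unit j b c hT) (t ≫ b)
  let τ : 𝟭 (DCoh.D X) ⟶ twD L n := (twD0 L).inv ≫ mapDNT (pw (InvX.one s) n)
  have hn' : (t ≫ τ.app _) ≫ (twD L n).map b = 0 := by
    refine (Category.assoc _ _ _).trans ((congrArg (t ≫ ·) (τ.naturality b).symm).trans ?_)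
    exact (Category.assoc _ _ _).symm.trans hn
  obtain ⟨x, hx⟩ := Triangle.coyoneda_exact₂ _ ((twD L n).map_distinguished _ hT) (t ≫ τ.app _) hn'
  refine ⟨n, x, fun {K'} hK' f hf => ?_⟩
  have hr : t ≫ (DCoh.Rpush j).map ((rho j).map f) ≫ τ.app _ = 0 := by
    have hu := (adj j).unit.naturality f
    simp only [Functor.id_map, Functor.comp_map] at hu
    have hnat := τ.naturality ((DCoh.Rpush j).map ((rho j).map f))
    simp only [Functor.id_map] at hnat
    refine (congrArg (t ≫ ·) hnat).trans ((Category.assoc _ _ _).symm.trans ?_)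
    refine (congrArg (· ≫ _) hx).trans ((Category.assoc _ _ _).trans ?_)
    refine (congrArg (x ≫ ·) ((Functor.map_comp _ _ _).symm.trans
      ((congrArg (twD L n).map hu.symm).trans (Functor.map_comp _ _ _)))).trans ?_
    exact (Category.assoc _ _ _).symm.trans ((congrArg (· ≫ _) hf).trans zero_comp)
  haveI : IsIso ((rho j).map (τ.app ((DCoh.Rpush j).obj ((rho j).obj K')))) := by
    haveI := isIso_rho_mapDNT_pw hL s (isQCohD_rpush j (isQCohD_rho j hK')) n
    rw [NatTrans.comp_app, Functor.map_comp]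
    infer_instance
  have ht : (rho j).map (t ≫ (DCoh.Rpush j).map ((rho j).map f)) = 0 := by
    rw [← cancel_mono ((rho j).map (τ.app ((DCoh.Rpush j).obj ((rho j).obj K')))), zero_comp,
      ← Functor.map_comp, Category.assoc, hr, Functor.map_zero]
  have hψ' : ψ' ≫ (rho j).map f = 0 := by
    have := ((adj j).homEquiv P ((rho j).obj K')).symm_apply_apply (ψ' ≫ (rho j).map f)
    rw [Adjunction.homEquiv_naturality_right, Adjunction.homEquiv_counit] at this
    rw [← this]
    exact (congrArg (· ≫ _) ht).trans zero_comp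
  have h1 : ((rhoStructureIso j).hom ≫ ψ ≫ ((rho j).map f)⟦m⟧')⟦-m⟧' = 0 := by
    rw [← cancel_epi (((rho j).commShiftIso (-m)).hom.app O), comp_zero,
      ← cancel_mono ((shiftFunctorCompIsoId (DCoh.D V.toScheme) m (-m) (by simp)).hom.app ((rho j).obj K')),
      zero_comp, Category.assoc]
    refine Eq.trans ?_ hψ'
    simp only [ψ', Category.assoc, Functor.map_comp]
    exact congrArg (_ ≫ _ ≫ _ ≫ ·)
      ((shiftFunctorCompIsoId (DCoh.D V.toScheme) m (-m) (by simp)).hom.naturality ((rho j).map f))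
  have h2 : (rhoStructureIso j).hom ≫ ψ ≫ ((rho j).map f)⟦m⟧' = 0 :=
    (shiftFunctor _ (-m)).map_injective (h1.trans (Functor.map_zero _ _ _).symm)
  rwa [← cancel_epi (rhoStructureIso j).hom, comp_zero]

section Proj

variable {n : ℕ} {A : Type u} [CommRing A] {Z : Scheme.{u}} (g : Z ⟶ CohB1.ProjSpace n A)

/-- A finite type cohomology sheaf is covered by finitely many maps from negative twists. -/
theorem exists_twist_gens_hd [IsAffineHom g] [QuasiSeparatedSpace Z] {K : DCoh.D Z} (hK : DCoh.IsQCohD K)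
    (m : ℤ) (hft : CohB1.IsFT (DCoh.HD K m)) :
    ∃ (κ : Type) (U : κ → Z.Opens) (L : List (Σ d : ℕ, (DCoh.inD Z (Tw g (-(d : ℤ))))⟦-m⟧ ⟶ K)),
      (∀ i, IsAffineOpen (U i)) ∧ (∀ z, ∃ i, z ∈ U i) ∧
        ∀ {K' : DCoh.D Z}, DCoh.IsQCohD K' → ∀ f : K ⟶ K', (∀ p ∈ L, p.2 ≫ f = 0) →
          ∀ (i : κ) (ψ : DCoh.inD _ (Coh.structureModule (U i).toScheme) ⟶ ((rho (U i).ι).obj K)⟦m⟧),
            ψ ≫ ((rho (U i).ι).map f)⟦m⟧' = 0 := by
  haveI : CompactSpace Z := by
    haveI := PnCoh.Chow.isProper_toSpec n A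
    haveI : CompactSpace (CohB1.ProjSpace n A) :=
      QuasiCompact.compactSpace_of_compactSpace (CohB1.ProjSpace.toSpec n A)
    exact QuasiCompact.compactSpace_of_compactSpace g
  let L₁ := Tw g 1
  let L' := Tw g (-1)
  have hinv : PicF.cl L₁ * PicF.cl L' = 1 := by rw [← cl_Tw_add]; exact cl_Tw_zero g
  have hinv' : PicF.cl L' * PicF.cl L₁ = 1 := by rw [← cl_Tw_add]; exact cl_Tw_zero g
  haveI : ∀ n, (itw L₁ n).IsEquivalence := isEquivalence_itw (isInvertible_Tw g 1)
  haveI : ∀ n, (itw L' n).IsEquivalence := isEquivalence_itw (isInvertible_Tw g (-1))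
  haveI : ∀ n, (itw L₁ n).Additive := fun n => Functor.additive_of_preserves_binary_products _
  haveI : ∀ n, (itw L' n).Additive := fun n => Functor.additive_of_preserves_binary_products _
  obtain ⟨e⟩ := PicClLib.nonempty_pullback_structureModule g
  let s : Fin (n + 1) → (Coh.structureModule Z ⟶ L₁) := fun j =>
    e.inv ≫ (Scheme.Modules.pullback g).map (InvX.ofSect (ProjUPX.sec (CohB1.polyGrading n A) (X_mem j)))
  have hs : ∀ j, CohB1.genLocus L₁ (s j) =
      g ⁻¹ᵁ Proj.basicOpen (CohB1.polyGrading n A) (MvPolynomial.X j : MvPolynomial (Fin (n + 1)) A) := fun j => by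
    refine (InvX.genLocus_pullback g (PnCoh.Finite.isInvertible_twist
      (fun j : Fin (n + 1) => (MvPolynomial.X j : MvPolynomial (Fin (n + 1)) A)) X_mem cov_X 1) _ e.symm).trans ?_
    exact congrArg (g ⁻¹ᵁ ·) (AmpleX.genLocus_sec (CohB1.polyGrading n A)
      (fun j : Fin (n + 1) => (MvPolynomial.X j : MvPolynomial (Fin (n + 1)) A)) X_mem cov_X (X_mem j))
  have haff : ∀ j, IsAffineOpen (CohB1.genLocus L₁ (s j)) := fun j => by
    rw [hs]
    exact (Proj.isAffineOpen_basicOpen _ _ (X_mem j) one_pos).preimage g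
  let U := fun j => CohB1.genLocus L₁ (s j)
  have hgen : ∀ j, ∃ (N : ℕ) (α : Fin N → (Σ d : ℕ, (DCoh.inD Z (Tw g (-(d : ℤ))))⟦-m⟧ ⟶ K)),
      ∀ {K' : DCoh.D Z}, DCoh.IsQCohD K' → ∀ f : K ⟶ K', (∀ k, (α k).2 ≫ f = 0) →
        ∀ ψ : DCoh.inD _ (Coh.structureModule (U j).toScheme) ⟶ ((rho (U j).ι).obj K)⟦m⟧,
          ψ ≫ ((rho (U j).ι).map f)⟦m⟧' = 0 := by
    intro j
    haveI : IsAffine (U j).toScheme := haff j
    obtain ⟨eO⟩ := nonempty_secObj_top (U j).toScheme
    let M := ((rho (U j).ι).obj K)⟦m⟧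
    have hM : DCoh.IsQCohD M := isQCohD_shift (isQCohD_rho (U j).ι hK) m
    have hftM : CohB1.IsFT (DCoh.HD M 0) :=
      isFT_of_iso' (((Scheme.Modules.restrictFunctorIsoPullback (U j).ι).app (DCoh.HD K m)).symm ≪≫
        (restrictHDIso (U j).ι K m).symm ≪≫
        (((DerivedCategory.homologyFunctor (U j).toScheme.Modules 0).shiftIso m 0 m (add_zero m)).app _).symm)
        (QCoh.isFT_pullback (U j).ι (hK m) hft)
    obtain ⟨N, β, hβ⟩ := exists_top_gens hM hftM
    choose d x hx using fun k => exists_twist_lift (isInvertible_Tw g 1) (s j) (haff j) hK m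
      ((DerivedCategory.singleFunctor (U j).toScheme.Modules 0).map eO.hom ≫ β k)
    have i : ∀ d : ℕ, Nonempty (Tw g (-(d : ℤ)) ≅ (itw L' d).obj (Coh.structureModule Z)) := fun d =>
      cl_eq_iff.1 (by
        rw [cl_itw, cl_Tw_neg_pow]
        exact (one_mul _).symm)
    have e₁ := fun d => nonempty_itw_comp L₁ L' hinv d
    have e₂ := fun d => nonempty_itw_comp L' L₁ hinv' d
    let E₁ := fun d => (nonempty_mapD_comp (itw L₁ d) (itw L' d) (e₁ d).some).some
    let O := DCoh.inD Z (Coh.structureModule Z)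
    let a : ∀ d : ℕ, (DCoh.inD Z (Tw g (-(d : ℤ))))⟦-m⟧ ≅ (twD L' d).obj (O⟦-m⟧) := fun d =>
      (shiftFunctor (DCoh.D Z) (-m)).mapIso ((DerivedCategory.singleFunctor Z.Modules 0).mapIso (i d).some ≪≫
        (((itw L' d).mapDerivedCategorySingleFunctor 0).app (Coh.structureModule Z)).symm) ≪≫
        (((twD L' d).commShiftIso (-m)).app O).symm
    refine ⟨N, fun k => ⟨d k, (a (d k)).hom ≫ (twD L' (d k)).map (x k) ≫ (E₁ (d k)).hom.app K⟩,
      fun {K'} hK' f hf ψ => ?_⟩
    rw [← cancel_epi ((DerivedCategory.singleFunctor (U j).toScheme.Modules 0).map eO.inv), comp_zero,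
      ← Category.assoc]
    refine hβ (isQCohD_shift (isQCohD_rho (U j).ι hK') m) _ (fun k => ?_) _
    have h0 : x k ≫ (twD L₁ (d k)).map f = 0 := by
      have E₂ := (nonempty_mapD_comp (itw L' (d k)) (itw L₁ (d k)) (e₂ (d k)).some).some
      haveI : (twD L' (d k)).Faithful := Functor.Faithful.of_comp_iso E₂
      refine (twD L' (d k)).map_injective ?_
      have hnat := (E₁ (d k)).hom.naturality f
      simp only [Functor.comp_map, Functor.id_map] at hnat
      rw [Functor.map_zero, ← cancel_epi (a (d k)).hom, comp_zero, Functor.map_comp,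
        ← cancel_mono ((E₁ (d k)).hom.app K'), zero_comp]
      refine Eq.trans ?_ (hf k)
      simp only [Category.assoc]
      exact congrArg (_ ≫ _ ≫ ·) hnat
    have h1 := hx k hK' f h0
    rw [← cancel_epi ((DerivedCategory.singleFunctor (U j).toScheme.Modules 0).map eO.hom), comp_zero]
    rw [Category.assoc] at h1
    exact h1
  choose N α hα using hgen
  refine ⟨Fin (n + 1), U, (List.finRange (n + 1)).flatMap fun j => (List.finRange (N j)).map (α j), haff,
    fun z => ?_, fun {K'} hK' f hf j ψ => hα j hK' f (fun k => hf (α j k) ?_) ψ⟩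
  · obtain ⟨j, hj⟩ := Opens.mem_iSup.1 ((cov_X (n := n) (A := A)).ge (trivial : g.base z ∈ (⊤ : Opens _)))
    exact ⟨j, by show z ∈ CohB1.genLocus L₁ (s j); rw [hs]; exact hj⟩
  · exact List.mem_flatMap.2 ⟨j, List.mem_finRange j, List.mem_map.2 ⟨k, List.mem_finRange k, rfl⟩⟩

end Proj

end Groth.Agent.ProjPush
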